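import Cfsg.Agent.ConstFour.Eigen
import Cfsg.Agent.Char.Gen

/-!
# Groups with an element of constant defect four or value zero: first facts
-/

namespace Cfsg.Agent.ConstFour

open scoped ComplexConjugate
open Module Cfsg.Agent.Char

universe v
variable {G : Type v} [Group G] {u : G}

/-- Every nonprincipal irreducible character `χ` has `χ 1 - χ u = 4` or `χ u = 0`. -/
structure Hyp (u : G) : Prop where
  ne : u ≠ 1
  val : ∀ χ : G → ℂ, IsIrrCharacter G χ → χ ≠ (fun _ => (1 : ℂ)) → χ 1 - χ u = 4 ∨ χ u = 0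

/-- The principal character in the subtype. -/
noncomputable def princ (G : Type v) [Group G] : IrrCharacter G := ⟨_, isIrrCharacter_one⟩

/-- The degree of a character as a natural number. -/
noncomputable def deg (χ : G → ℂ) : ℕ := ⌊(χ 1).re⌋₊

theorem deg_eq {χ : G → ℂ} (h : IsCharacter G χ) : χ 1 = (deg χ : ℂ) := by
  obtain ⟨n, hn⟩ := IsChar.degree h
  rw [deg, hn]
  simp

theorem deg_pos {χ : G → ℂ} (h : IsIrrCharacter G χ) : 0 < deg χ := by
  obtain ⟨n, hn, e⟩ := IsIrr.degree h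
  rw [deg, e]
  simpa using hn

variable [Finite G]

theorem Hyp.ne_degree (H : Hyp u) {χ : G → ℂ} (h : IsIrrCharacter G χ)
    (hn : χ ≠ fun _ => (1 : ℂ)) : χ u ≠ χ 1 := by
  intro e
  rcases H.val χ h hn with h1 | h1
  · rw [e, sub_self] at h1; norm_num at h1
  · exact IsIrr.one_ne_zero h (e.symm.trans h1)

/-- `u` lies in no proper normal subgroup. -/
theorem Hyp.not_mem (H : Hyp u) {N : Subgroup G} [N.Normal] (hN : N ≠ ⊤) : u ∉ N := by
  intro hu
  obtain ⟨g, hg⟩ : ∃ g : G, g ∉ N := by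
    by_contra! h
    exact hN (eq_top_iff.2 fun x _ => h x)
  obtain ⟨φ, hφ⟩ := exists_irr_ne_at_one (g := (QuotientGroup.mk g : G ⧸ N))
    (by rwa [Ne, QuotientGroup.eq_one_iff])
  refine H.ne_degree (isIrrCharacter_mk N φ.2) (fun e => hφ ?_) ?_
  · exact (congrFun e g).trans (congrFun e 1).symm
  · show (φ : G ⧸ N → ℂ) (QuotientGroup.mk u) = (φ : G ⧸ N → ℂ) (QuotientGroup.mk 1)
    rw [(QuotientGroup.eq_one_iff u).2 hu]; rfl

/-- The hypothesis is inherited by nontrivial quotients. -/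
theorem Hyp.quotient (H : Hyp u) {N : Subgroup G} [N.Normal] (hN : N ≠ ⊤) :
    Hyp (QuotientGroup.mk u : G ⧸ N) := by
  refine ⟨by rw [Ne, QuotientGroup.eq_one_iff]; exact H.not_mem hN, fun φ hφ hn => ?_⟩
  refine H.val _ (isIrrCharacter_mk N hφ) fun e => hn (funext fun q => ?_)
  obtain ⟨g, rfl⟩ := QuotientGroup.mk_surjective q
  exact congrFun e g

theorem Hyp.noLinear (H : Hyp u) : NoLinear G := by
  intro f
  by_contra hf
  have hirr := isIrrCharacter_hom f
  have hne : (fun g => (f g : ℂ)) ≠ fun _ => (1 : ℂ) := fun e =>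
    hf (MonoidHom.ext fun g => Units.ext (congrFun e g))
  have hnorm : ‖(f u : ℂ)‖ = 1 := by
    refine Complex.norm_eq_one_of_pow_eq_one ?_ (orderOf_pos u).ne'
    rw [← Units.val_pow_eq_pow_val, ← map_pow, pow_orderOf_eq_one, map_one, Units.val_one]
  rcases H.val _ hirr hne with h | h
  · simp only [map_one, Units.val_one] at h
    have : (f u : ℂ) = -3 := by linear_combination -h
    rw [this] at hnorm
    norm_num at hnorm
  · exact (f u).ne_zero h

theorem Hyp.deg_ne_one (H : Hyp u) {χ : G → ℂ} (h : IsIrrCharacter G χ)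
    (hn : χ ≠ fun _ => (1 : ℂ)) : χ 1 ≠ 1 := by
  intro e
  obtain ⟨f, hf⟩ := IsChar.exists_hom (IsIrr.isCharacter h) e
  refine hn (hf.trans (funext fun g => ?_))
  rw [H.noLinear f]
  rfl

open scoped Classical in
/-- Sum over the nonprincipal characters of degree times value. -/
theorem Hyp.column (H : Hyp u) :
    ∑ χ ∈ (Finset.univ : Finset (IrrCharacter G)).erase (princ G),
      (χ : G → ℂ) 1 * (χ : G → ℂ) u = -1 := by
  classical
  have h := regular_eq_sum u
  rw [if_neg H.ne, ← Finset.add_sum_erase _ _ (Finset.mem_univ (princ G))] at h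
  simp only [princ] at h ⊢
  linear_combination h

/-- A central element is represented by scalars. -/
theorem norm_eq_degree_of_central {q : G} (hq : ∀ g : G, Commute g q) (φ : IrrCharacter G) :
    ‖(φ : G → ℂ) q‖ = deg (φ : G → ℂ) := by
  classical
  have h1 := second_orthogonality q q
  rw [if_pos (IsConj.refl q), show Subgroup.centralizer ({q} : Set G) = ⊤ by
    ext x; simpa [Subgroup.mem_centralizer_singleton_iff] using (hq x).eq,
    Subgroup.card_top] at h1
  have h2 := regular_eq_sum (1 : G)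
  rw [if_pos rfl] at h2
  have h3 : ∑ χ : IrrCharacter G, ‖(χ : G → ℂ) q‖ ^ 2 =
      ∑ χ : IrrCharacter G, (deg (χ : G → ℂ) : ℝ) ^ 2 := by
    have h4 := congrArg Complex.re (h1.trans h2.symm)
    rw [Complex.re_sum, Complex.re_sum] at h4
    refine ((Finset.sum_congr rfl fun χ _ => ?_).trans h4).trans (Finset.sum_congr rfl fun χ _ => ?_)
    · rw [Complex.mul_conj, Complex.normSq_eq_norm_sq, Complex.ofReal_re]
    · rw [deg_eq (IsIrr.isCharacter χ.2)]; simp [sq]
  have hle : ∀ χ : IrrCharacter G, ‖(χ : G → ℂ) q‖ ≤ (deg (χ : G → ℂ) : ℝ) := fun χ => by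
    refine (IsChar.norm_le (IsIrr.isCharacter χ.2) q).trans (le_of_eq ?_)
    rw [deg_eq (IsIrr.isCharacter χ.2)]; simp
  have h5 := (Finset.sum_eq_sum_iff_of_le fun χ _ => pow_le_pow_left₀ (norm_nonneg _) (hle χ) 2).1 h3
    φ (Finset.mem_univ φ)
  exact (pow_left_inj₀ (norm_nonneg _) (Nat.cast_nonneg _) two_ne_zero).1 h5

/-- No nonvanishing character of degree two. -/
theorem Hyp.deg_ne_two (H : Hyp u) {χ : G → ℂ} (h : IsIrrCharacter G χ) (h0 : χ u ≠ 0)
    (h2 : χ 1 = 2) : False := by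
  classical
  have hne : χ ≠ fun _ => (1 : ℂ) := fun e => by rw [e] at h2; norm_num at h2
  have hv : χ u = -2 := by
    have := (H.val χ h hne).resolve_right h0
    linear_combination -this + h2
  obtain ⟨n, ρ, hρ, rfl⟩ := h
  obtain ⟨ω, hω, -⟩ := scalar_of_norm_character_eq ρ u (by
    have := ρ.char_one
    rw [h2] at this
    have hn : finrank ℂ (Fin n → ℂ) = 2 := by exact_mod_cast this.symm
    rw [hv, hn]; norm_num)
  have hc : IsCharacter G ρ.character := ⟨n, ρ, rfl⟩
  let K := kerSubgroup hc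
  have hK : K ≠ ⊤ := fun e => by
    have : u ∈ K := e ▸ Subgroup.mem_top u
    rw [mem_kerSubgroup, hv, h2] at this
    norm_num at this
  have hmem : ∀ g : G, (g * u)⁻¹ * (u * g) ∈ K := fun g => by
    have hcomm : ρ (u * g) = ρ (g * u) := by
      rw [map_mul, map_mul, hω]
      ext x
      simp [Module.End.mul_apply]
    rw [mem_kerSubgroup]
    show LinearMap.trace ℂ _ (ρ _) = LinearMap.trace ℂ _ (ρ 1)
    rw [map_mul, hcomm, ← map_mul, inv_mul_cancel]
  have hq : ∀ g : G ⧸ K, Commute g (QuotientGroup.mk u) := fun g => by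
    obtain ⟨g, rfl⟩ := QuotientGroup.mk_surjective g
    show (QuotientGroup.mk (g * u) : G ⧸ K) = QuotientGroup.mk (u * g)
    exact QuotientGroup.eq.2 (hmem g)
  have HK := H.quotient hK
  have hall : ∀ φ ∈ (Finset.univ : Finset (IrrCharacter (G ⧸ K))).erase (princ (G ⧸ K)),
      (φ : G ⧸ K → ℂ) 1 * (φ : G ⧸ K → ℂ) (QuotientGroup.mk u) = -4 := by
    intro φ hφ
    have hφ1 : (φ : G ⧸ K → ℂ) ≠ fun _ => (1 : ℂ) := fun e =>
      (Finset.mem_erase.1 hφ).1 (Subtype.ext e)
    have hn := norm_eq_degree_of_central hq φ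
    have hd := deg_eq (IsIrr.isCharacter φ.2)
    have hpos := deg_pos φ.2
    generalize deg (φ : G ⧸ K → ℂ) = d at hn hd hpos
    rcases HK.val _ φ.2 hφ1 with e | e
    · have e' : (φ : G ⧸ K → ℂ) (QuotientGroup.mk u) = (((d : ℝ) - 4 : ℝ) : ℂ) := by
        push_cast; linear_combination -e + hd
      rw [e', Complex.norm_real, Real.norm_eq_abs] at hn
      have hd2 : d = 2 := by
        rcases abs_eq (Nat.cast_nonneg d) |>.1 hn with h' | h'
        · exfalso; linarith
        · exact_mod_cast (by linarith : (d : ℝ) = 2)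
      rw [e', hd, hd2]; norm_num
    · rw [e, norm_zero] at hn
      exfalso
      have : (0 : ℝ) < d := by exact_mod_cast hpos
      linarith
  have h1 := HK.column
  rw [Finset.sum_congr rfl hall, Finset.sum_const, nsmul_eq_mul] at h1
  generalize ((Finset.univ : Finset (IrrCharacter (G ⧸ K))).erase (princ (G ⧸ K))).card = m at h1
  have : ((4 * m : ℕ) : ℂ) = ((1 : ℕ) : ℂ) := by push_cast; linear_combination -h1
  have := Nat.cast_injective this
  omega

/-- The shape of a nonvanishing nonprincipal irreducible character. -/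
theorem Hyp.nonvanishing (H : Hyp u) {χ : G → ℂ} (h : IsIrrCharacter G χ)
    (hn : χ ≠ fun _ => (1 : ℂ)) (h0 : χ u ≠ 0) :
    χ u = (deg χ : ℂ) - 4 ∧ (deg χ = 3 ∨ 5 ≤ deg χ) := by
  have hd := deg_eq (IsIrr.isCharacter h)
  have hv := (H.val χ h hn).resolve_right h0
  have e : χ u = (deg χ : ℂ) - 4 := by linear_combination -hv + hd
  refine ⟨e, ?_⟩
  have h1 : deg χ ≠ 1 := fun e1 => H.deg_ne_one h hn (by rw [hd, e1, Nat.cast_one])
  have h2 : deg χ ≠ 2 := fun e1 => H.deg_ne_two h h0 (by rw [hd, e1]; norm_num)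
  have h4 : deg χ ≠ 4 := fun e1 => h0 (by rw [e, e1]; norm_num)
  have := deg_pos h
  omega

/-- A character of degree three with value `-1` at `u` exists. -/
theorem Hyp.exists_three (H : Hyp u) :
    ∃ θ : G → ℂ, IsIrrCharacter G θ ∧ θ 1 = 3 ∧ θ u = -1 := by
  classical
  by_contra hno
  push Not at hno
  have key : ∀ χ ∈ (Finset.univ : Finset (IrrCharacter G)).erase (princ G),
      0 ≤ ((χ : G → ℂ) 1 * (χ : G → ℂ) u).re := by
    intro χ hχ
    by_cases h0 : (χ : G → ℂ) u = 0
    · simp [h0]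
    · obtain ⟨e, hd⟩ := H.nonvanishing χ.2 (fun e => (Finset.mem_erase.1 hχ).1 (Subtype.ext e)) h0
      have hdd := deg_eq (IsIrr.isCharacter χ.2)
      generalize deg (χ : G → ℂ) = d at e hd hdd
      rcases hd with rfl | hd
      · exact absurd (by rw [e]; norm_num) (hno _ χ.2 (by rw [hdd]; norm_num))
      · rw [e, hdd]
        have : (5 : ℝ) ≤ d := by exact_mod_cast hd
        simp
        nlinarith
  have := congrArg Complex.re H.column
  rw [Complex.re_sum] at this
  have h2 := Finset.sum_nonneg key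
  rw [this] at h2
  norm_num at h2

/-! ### Decomposition of characters with `u * u` in the kernel -/

omit [Finite G] in
theorem isCharacter_msum {s : Multiset (G → ℂ)} (h : ∀ χ ∈ s, IsCharacter G χ) :
    IsCharacter G s.sum := by
  induction s using Multiset.induction with
  | empty => exact isCharacter_zero
  | cons a s ih =>
    rw [Multiset.sum_cons]
    exact isCharacter_add (h a (Multiset.mem_cons_self a s))
      (ih fun χ hχ => h χ (Multiset.mem_cons_of_mem hχ))

/-- A member of the nonvanishing class. -/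
def IsN (u : G) (χ : G → ℂ) : Prop :=
  IsIrrCharacter G χ ∧ χ u = (deg χ : ℂ) - 4 ∧ (deg χ = 3 ∨ 5 ≤ deg χ)

/-- A member of the vanishing class. -/
def IsV (u : G) (χ : G → ℂ) : Prop :=
  IsIrrCharacter G χ ∧ χ u = 0 ∧ 4 ∣ deg χ ∧ χ (u * u) = χ 1

theorem Hyp.decomp (H : Hyp u) {Φ : G → ℂ} (h : IsCharacter G Φ) (hΦ : Φ (u * u) = Φ 1) :
    ∃ (t : ℕ) (A B : Multiset (G → ℂ)), Φ = (fun _ => (t : ℂ)) + A.sum + B.sum ∧
      (∀ χ ∈ A, IsN u χ) ∧ (∀ χ ∈ B, IsV u χ) := by
  classical
  obtain ⟨s, hs⟩ := IsChar.exists_multiset h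
  have key : ∀ (s : Multiset (G → ℂ)), (∀ χ ∈ s, IsIrrCharacter G χ) → s.sum (u * u) = s.sum 1 →
      ∃ (t : ℕ) (A B : Multiset (G → ℂ)), s.sum = (fun _ => (t : ℂ)) + A.sum + B.sum ∧
        (∀ χ ∈ A, IsN u χ) ∧ (∀ χ ∈ B, IsV u χ) := by
    intro s
    induction s using Multiset.induction with
    | empty => exact fun _ _ => ⟨0, 0, 0, by funext g; simp, by simp, by simp⟩
    | cons a s ih =>
      intro hirr hker
      have ha := hirr a (Multiset.mem_cons_self a s)
      have hs' : ∀ χ ∈ s, IsIrrCharacter G χ := fun χ hχ => hirr χ (Multiset.mem_cons_of_mem hχ)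
      have hchar : IsCharacter G s.sum := isCharacter_msum fun χ hχ => IsIrr.isCharacter (hs' χ hχ)
      have := Fintype.ofFinite G
      obtain ⟨k, hk⟩ := classInner_isCharacter_eq_natCast hchar (IsIrr.isCharacter ha)
      have hca : classInner (a ::ₘ s).sum a ≠ 0 := by
        rw [Multiset.sum_cons, classInner_add_left, classInner_irr_self ha, hk]
        exact_mod_cast (Nat.succ_ne_zero k) ∘ fun e => by omega
      have hau := IsChar.constituent_kernel
        (isCharacter_msum fun χ hχ => IsIrr.isCharacter (hirr χ hχ)) ha hca hker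
      rw [Multiset.sum_cons, Pi.add_apply, Pi.add_apply, hau] at hker
      obtain ⟨t, A, B, e, hA, hB⟩ := ih hs' (add_left_cancel hker)
      rw [Multiset.sum_cons, e]
      by_cases h1 : a = fun _ => (1 : ℂ)
      · refine ⟨t + 1, A, B, ?_, hA, hB⟩
        rw [h1]; funext g; simp only [Pi.add_apply]; push_cast; ring
      by_cases h0 : a u = 0
      · refine ⟨t, A, a ::ₘ B, ?_, hA, ?_⟩
        · rw [Multiset.sum_cons]; abel
        · simp only [Multiset.mem_cons, forall_eq_or_imp]
          refine ⟨⟨ha, h0, ?_, hau⟩, hB⟩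
          obtain ⟨j, hj⟩ := four_dvd H.noLinear (IsIrr.isCharacter ha) hau
          rw [h0, zero_add, deg_eq (IsIrr.isCharacter ha)] at hj
          exact ⟨j, by exact_mod_cast hj⟩
      · refine ⟨t, a ::ₘ A, B, ?_, ?_, hB⟩
        · rw [Multiset.sum_cons]; abel
        · simp only [Multiset.mem_cons, forall_eq_or_imp]
          exact ⟨⟨ha, H.nonvanishing ha h1 h0⟩, hA⟩
  have e : Φ = (s.map fun ψ : IrrCharacter G => (ψ : G → ℂ)).sum := hs
  obtain ⟨t, A, B, e', hA, hB⟩ := key (s.map fun ψ : IrrCharacter G => (ψ : G → ℂ)) (fun χ hχ => by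
    obtain ⟨ψ, -, rfl⟩ := Multiset.mem_map.1 hχ
    exact ψ.2) (by rw [← e]; exact hΦ)
  exact ⟨t, A, B, e.trans e', hA, hB⟩

theorem sum_one_of_isIrr {s : Multiset (G → ℂ)} (h : ∀ χ ∈ s, IsIrrCharacter G χ) :
    s.sum 1 = ((s.map deg).sum : ℕ) := by
  induction s using Multiset.induction with
  | empty => simp
  | cons a s ih =>
    rw [Multiset.sum_cons, Pi.add_apply, ih fun χ hχ => h χ (Multiset.mem_cons_of_mem hχ),
      deg_eq (IsIrr.isCharacter (h a (Multiset.mem_cons_self a s))), Multiset.map_cons,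
      Multiset.sum_cons]
    push_cast; ring

omit [Finite G] in
theorem sum_u_isN {A : Multiset (G → ℂ)} (h : ∀ χ ∈ A, IsN u χ) :
    A.sum u = ((A.map deg).sum : ℕ) - 4 * (Multiset.card A : ℂ) := by
  induction A using Multiset.induction with
  | empty => simp
  | cons a s ih =>
    rw [Multiset.sum_cons, Pi.add_apply, ih fun χ hχ => h χ (Multiset.mem_cons_of_mem hχ),
      (h a (Multiset.mem_cons_self a s)).2.1, Multiset.map_cons, Multiset.sum_cons,
      Multiset.card_cons]
    push_cast; ring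

omit [Finite G] in
theorem sum_u_isV {B : Multiset (G → ℂ)} (h : ∀ χ ∈ B, IsV u χ) : B.sum u = 0 := by
  induction B using Multiset.induction with
  | empty => simp
  | cons a s ih =>
    rw [Multiset.sum_cons, Pi.add_apply, ih fun χ hχ => h χ (Multiset.mem_cons_of_mem hχ),
      (h a (Multiset.mem_cons_self a s)).2.1, zero_add]

/-- The numerical form of the decomposition. -/
theorem Hyp.decomp' (H : Hyp u) {Φ : G → ℂ} (h : IsCharacter G Φ) (hΦ : Φ (u * u) = Φ 1)
    {D M : ℕ} (hD : Φ 1 = D) (hM : Φ 1 = Φ u + 4 * M) :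
    ∃ (t : ℕ) (A B : Multiset (G → ℂ)) (w : ℕ), Φ = (fun _ => (t : ℂ)) + A.sum + B.sum ∧
      (∀ χ ∈ A, IsN u χ) ∧ (∀ χ ∈ B, IsV u χ) ∧ (B.map deg).sum = 4 * w ∧
      Multiset.card A + w = M ∧ D = t + (A.map deg).sum + 4 * w := by
  obtain ⟨t, A, B, e, hA, hB⟩ := H.decomp h hΦ
  obtain ⟨w, hw⟩ : 4 ∣ (B.map deg).sum := Multiset.dvd_sum fun d hd => by
    obtain ⟨χ, hχ, rfl⟩ := Multiset.mem_map.1 hd
    exact (hB χ hχ).2.2.1
  have e1 : Φ 1 = (t + (A.map deg).sum + 4 * w : ℕ) := by
    rw [e, Pi.add_apply, Pi.add_apply, sum_one_of_isIrr fun χ hχ => (hA χ hχ).1,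
      sum_one_of_isIrr fun χ hχ => (hB χ hχ).1, hw]
    push_cast; ring
  have e2 : Φ u = t + ((A.map deg).sum : ℕ) - 4 * (Multiset.card A : ℂ) := by
    rw [e, Pi.add_apply, Pi.add_apply, sum_u_isN hA, sum_u_isV hB]; ring
  refine ⟨t, A, B, w, e, hA, hB, hw, ?_, ?_⟩
  · have : ((4 * (Multiset.card A + w) : ℕ) : ℂ) = ((4 * M : ℕ) : ℂ) := by
      push_cast
      have h3 := hM
      rw [e1, e2] at h3
      push_cast at h3
      linear_combination h3
    have := Nat.cast_injective this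
    omega
  · exact Nat.cast_injective (hD.symm.trans e1)

theorem classInner_one_decomp [Fintype G] {t : ℕ} {A B : Multiset (G → ℂ)} {Φ : G → ℂ}
    (e : Φ = (fun _ => (t : ℂ)) + A.sum + B.sum) (hA : ∀ χ ∈ A, IsN u χ) (hB : ∀ χ ∈ B, IsV u χ)
    (h0 : classInner Φ (fun _ => (1 : ℂ)) = 0) : t = 0 := by
  obtain ⟨a, ha⟩ := classInner_isCharacter_eq_natCast (isCharacter_msum fun χ hχ =>
    IsIrr.isCharacter (hA χ hχ).1) (isCharacter_one (G := G))
  obtain ⟨b, hb⟩ := classInner_isCharacter_eq_natCast (isCharacter_msum fun χ hχ =>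
    IsIrr.isCharacter (hB χ hχ).1) (isCharacter_one (G := G))
  have e' : (fun _ : G => (t : ℂ)) = (t : ℂ) • fun _ => (1 : ℂ) := by funext g; simp
  rw [e, classInner_add_left, classInner_add_left, ha, hb, e', classInner_smul_left,
    classInner_irr_self isIrrCharacter_one] at h0
  have : ((t + a + b : ℕ) : ℂ) = ((0 : ℕ) : ℂ) := by push_cast; linear_combination h0
  have := Nat.cast_injective this
  omega

end Cfsg.Agent.ConstFour
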