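import Cfsg.Agent.Char.Linear
import Cfsg.Agent.Char.FS

/-!
# Eigenvalues of a character without determinant

For a group without nontrivial linear characters, every representation has determinant one.
-/

namespace Cfsg.Agent.ConstFour

open scoped ComplexConjugate ComplexOrder
open Module Cfsg.Agent.Char

variable {G : Type*} [Group G] [Finite G] {χ : G → ℂ}

/-- The group has no nontrivial linear character. -/
def NoLinear (G : Type*) [Group G] : Prop := ∀ f : G →* ℂˣ, f = 1

theorem exists_roots (hP : NoLinear G) (h : IsCharacter G χ) (g : G) :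
    ∃ (n : ℕ) (μ : Fin n → ℂ), χ 1 = n ∧ (∀ i, ‖μ i‖ = 1) ∧
      (∀ k : ℕ, χ (g ^ k) = ∑ i, μ i ^ k) ∧ ∏ i, μ i = 1 := by
  classical
  obtain ⟨n, ρ, rfl⟩ := h
  obtain ⟨μ, b, hb, hμ, -⟩ := exists_eigenbasis ρ g
  refine ⟨_, μ, ρ.char_one, fun i => Complex.norm_eq_one_of_pow_eq_one (hμ i) (orderOf_pos g).ne',
    fun k => ?_, ?_⟩
  · refine trace_eq_sum_of_eigenbasis _ b _ fun i => ?_
    induction k with
    | zero => simp
    | succ k ih =>
      rw [pow_succ', map_mul, Module.End.mul_apply, ih, map_smul, hb, smul_smul, pow_succ]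
  · have h1 : LinearMap.det (ρ g) = 1 := by
      have := congrArg Units.val (DFunLike.congr_fun (hP ((LinearMap.det.comp ρ).toHomUnits)) g)
      simpa using this
    have h2 : LinearMap.toMatrix b b (ρ g) = Matrix.diagonal μ := by
      ext i j
      rw [LinearMap.toMatrix_apply, hb, map_smul, Basis.repr_self, Finsupp.smul_apply,
        Finsupp.single_apply, Matrix.diagonal_apply]
      by_cases hij : i = j
      · subst hij; simp
      · simp [hij, Ne.symm hij]
    rw [← LinearMap.det_toMatrix b, h2, Matrix.det_diagonal] at h1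
    exact h1

theorem exists_eigen {n : ℕ} (hP : NoLinear G) (ρ : Representation ℂ G (Fin n → ℂ)) (g : G) :
    ∃ (μ : Fin n → ℂ) (b : Basis (Fin n) ℂ (Fin n → ℂ)), (∀ i, ρ g (b i) = μ i • b i) ∧
      (∀ i, ‖μ i‖ = 1) ∧ ρ.character g = ∑ i, μ i ∧ ∏ i, μ i = 1 := by
  classical
  obtain ⟨μ₀, b₀, hb₀, hμ, -⟩ := exists_eigenbasis ρ g
  let e := finCongr (Module.finrank_fin_fun ℂ (n := n))
  let b := b₀.reindex e
  have hb : ∀ i, ρ g (b i) = μ₀ (e.symm i) • b i := fun i => by
    simp only [b, Basis.reindex_apply]; exact hb₀ _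
  refine ⟨fun i => μ₀ (e.symm i), b, hb, fun i => Complex.norm_eq_one_of_pow_eq_one (hμ _) (orderOf_pos g).ne',
    trace_eq_sum_of_eigenbasis _ b _ hb, ?_⟩
  have h1 : LinearMap.det (ρ g) = 1 := by
    have := congrArg Units.val (DFunLike.congr_fun (hP ((LinearMap.det.comp ρ).toHomUnits)) g)
    simpa using this
  have h2 : LinearMap.toMatrix b b (ρ g) = Matrix.diagonal fun i => μ₀ (e.symm i) := by
    ext i j
    rw [LinearMap.toMatrix_apply, hb, map_smul, Basis.repr_self, Finsupp.smul_apply,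
      Finsupp.single_apply, Matrix.diagonal_apply]
    by_cases hij : i = j
    · subst hij; simp
    · simp [hij, Ne.symm hij]
  rw [← LinearMap.det_toMatrix b, h2, Matrix.det_diagonal] at h1
  exact h1

theorem conj_eq_inv {a : ℂ} (h : ‖a‖ = 1) : conj a = a⁻¹ := (Complex.inv_eq_conj h).symm

theorem exists_three (hP : NoLinear G) (h : IsCharacter G χ) (h1 : χ 1 = 3) (g : G) :
    ∃ a b c : ℂ, a * b * c = 1 ∧ conj a = b * c ∧ conj b = a * c ∧ conj c = a * b ∧
      ∀ k : ℕ, χ (g ^ k) = a ^ k + b ^ k + c ^ k := by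
  obtain ⟨n, μ, hn, hμ, hk, hp⟩ := exists_roots hP h g
  obtain rfl : n = 3 := by
    rw [h1] at hn
    exact_mod_cast hn.symm
  rw [Fin.prod_univ_three] at hp
  refine ⟨μ 0, μ 1, μ 2, hp, ?_, ?_, ?_, fun k => by rw [hk, Fin.sum_univ_three]⟩ <;>
    rw [conj_eq_inv (hμ _)] <;> refine inv_eq_of_mul_eq_one_right ?_ <;> linear_combination hp

theorem exists_four (hP : NoLinear G) (h : IsCharacter G χ) (h1 : χ 1 = 4) (g : G) :
    ∃ a b c d : ℂ, a * b * c * d = 1 ∧ conj a = b * c * d ∧ conj b = a * c * d ∧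
      conj c = a * b * d ∧ conj d = a * b * c ∧
      ∀ k : ℕ, χ (g ^ k) = a ^ k + b ^ k + c ^ k + d ^ k := by
  obtain ⟨n, μ, hn, hμ, hk, hp⟩ := exists_roots hP h g
  obtain rfl : n = 4 := by
    rw [h1] at hn
    exact_mod_cast hn.symm
  rw [Fin.prod_univ_four] at hp
  refine ⟨μ 0, μ 1, μ 2, μ 3, hp, ?_, ?_, ?_, ?_, fun k => by rw [hk, Fin.sum_univ_four]⟩ <;>
    rw [conj_eq_inv (hμ _)] <;> refine inv_eq_of_mul_eq_one_right ?_ <;> linear_combination hp

/-- The exterior square of a character. -/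
noncomputable def alt (χ : G → ℂ) : G → ℂ := fun g => (χ g * χ g - χ (g * g)) / 2

theorem isCharacter_alt (h : IsCharacter G χ) : IsCharacter G (alt χ) := by
  obtain ⟨s, a, -, ha, he, he'⟩ := exists_sym_alt h
  convert ha using 1
  funext g
  have h1 := congrFun he g
  simp only [Pi.mul_apply, Pi.add_apply] at h1
  simp only [alt, h1, he' g]
  ring

/-- The symmetric square of a character. -/
noncomputable def sym (χ : G → ℂ) : G → ℂ := fun g => (χ g * χ g + χ (g * g)) / 2

theorem isCharacter_sym (h : IsCharacter G χ) : IsCharacter G (sym χ) := by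
  obtain ⟨s, a, hs, -, he, he'⟩ := exists_sym_alt h
  convert hs using 1
  funext g
  have h1 := congrFun he g
  simp only [Pi.mul_apply, Pi.add_apply] at h1
  simp only [sym, h1, he' g]
  ring

theorem alt_three (hP : NoLinear G) (h : IsCharacter G χ) (h1 : χ 1 = 3) (g : G) :
    alt χ g = conj (χ g) := by
  obtain ⟨a, b, c, habc, ha, hb, hc, hk⟩ := exists_three hP h h1 g
  have e1 : χ g = a + b + c := by simpa using hk 1
  have e2 : χ (g * g) = a ^ 2 + b ^ 2 + c ^ 2 := by rw [← pow_two]; exact hk 2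
  rw [alt, e1, e2, map_add, map_add, ha, hb, hc]
  ring

theorem conj_alt_four (hP : NoLinear G) (h : IsCharacter G χ) (h1 : χ 1 = 4) (g : G) :
    conj (alt χ g) = alt χ g := by
  obtain ⟨a, b, c, d, hp, ha, hb, hc, hd, hk⟩ := exists_four hP h h1 g
  have e1 : χ g = a + b + c + d := by simpa using hk 1
  have e2 : χ (g * g) = a ^ 2 + b ^ 2 + c ^ 2 + d ^ 2 := by rw [← pow_two]; exact hk 2
  have e : alt χ g = a * b + a * c + a * d + b * c + b * d + c * d := by
    rw [alt, e1, e2]; ring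
  rw [e]
  simp only [map_add, map_mul, ha, hb, hc, hd]
  linear_combination (a * b + a * c + a * d + b * c + b * d + c * d) * hp

theorem alt_alt_four (hP : NoLinear G) (h : IsCharacter G χ) (h1 : χ 1 = 4) (g : G) :
    alt (alt χ) g = χ g * conj (χ g) - 1 := by
  obtain ⟨a, b, c, d, hp, ha, hb, hc, hd, hk⟩ := exists_four hP h h1 g
  have e1 : χ g = a + b + c + d := by simpa using hk 1
  have e2 : χ (g * g) = a ^ 2 + b ^ 2 + c ^ 2 + d ^ 2 := by rw [← pow_two]; exact hk 2
  have e4 : χ (g * g * (g * g)) = a ^ 4 + b ^ 4 + c ^ 4 + d ^ 4 := by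
    rw [show g * g * (g * g) = g ^ 4 by simp [pow_succ, mul_assoc]]; exact hk 4
  simp only [alt, e1, e2, e4, map_add, ha, hb, hc, hd]
  linear_combination (-1 : ℂ) * hp

/-- An element whose square is in the kernel takes values congruent to the degree mod 4. -/
theorem four_dvd (hP : NoLinear G) (h : IsCharacter G χ) {u : G} (hu : χ (u * u) = χ 1) :
    ∃ k : ℕ, χ 1 = χ u + 4 * k := by
  classical
  obtain ⟨n, μ, hn, hμ, hk, hp⟩ := exists_roots hP h u
  have hsum : ∑ i, (μ i ^ 2).re = ∑ _i : Fin n, (1 : ℝ) := by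
    rw [← Complex.re_sum, ← hk 2, pow_two, hu, hn]
    simp
  have hsq : ∀ i, μ i = 1 ∨ μ i = -1 := fun i => by
    have hle : ∀ j ∈ Finset.univ, (μ j ^ 2).re ≤ (1 : ℝ) := fun j _ =>
      (Complex.re_le_norm _).trans (by simp [hμ j])
    have hre := (Finset.sum_eq_sum_iff_of_le hle).1 hsum i (Finset.mem_univ _)
    have h0 : 0 ≤ μ i ^ 2 := Complex.re_eq_norm.1 (by rw [hre, norm_pow, hμ i, one_pow])
    have him : (μ i ^ 2).im = 0 := (Complex.nonneg_iff.1 h0).2.symm
    exact sq_eq_one_iff.1 (Complex.ext (by simpa using hre) (by simpa using him))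
  set S := Finset.univ.filter fun i => μ i = -1 with hS
  have h2 : ∀ i, μ i = if i ∈ S then -1 else 1 := fun i => by
    by_cases hi : μ i = -1
    · simp [hS, hi]
    · simp [hS, hi, (hsq i).resolve_right hi]
  have hprod : (-1 : ℂ) ^ S.card = 1 := by
    have h3 := hp
    rw [Finset.prod_congr rfl fun i _ => h2 i, Finset.prod_ite_mem, Finset.univ_inter,
      Finset.prod_const] at h3
    exact h3
  obtain ⟨k, hk'⟩ := (neg_one_pow_eq_one_iff_even (by norm_num : (-1 : ℂ) ≠ 1)).1 hprod
  refine ⟨k, ?_⟩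
  have e1 : χ u = ∑ i, μ i := by simpa using hk 1
  have e3 : ∀ i, μ i = 1 - if i ∈ S then (2 : ℂ) else 0 := fun i => by
    rw [h2 i]; split_ifs <;> norm_num
  rw [hn, e1, Finset.sum_congr rfl fun i _ => e3 i, Finset.sum_sub_distrib, Finset.sum_ite_mem,
    Finset.univ_inter, Finset.sum_const, Finset.sum_const, Finset.card_univ, Fintype.card_fin,
    hk', nsmul_eq_mul, nsmul_eq_mul]
  push_cast
  ring

/-- A character of degree three with value `-1` has the square of the element in its kernel. -/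
theorem sq_mem_kernel (hP : NoLinear G) (h : IsCharacter G χ) (h1 : χ 1 = 3) {u : G}
    (hu : χ u = -1) : χ (u * u) = χ 1 := by
  have e := alt_three hP h h1 u
  rw [alt, hu, map_neg, map_one] at e
  rw [h1]
  linear_combination (-2 : ℂ) * e

end Cfsg.Agent.ConstFour
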