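import Cfsg.Agent.ConstFour.Eigen
import Cfsg.Agent.Char.Linear
import Cfsg.Agent.S3378
import Mathlib.GroupTheory.GroupAction.ConjAct

/-!
# Perfect groups with a faithful real representation of degree three
-/

namespace Cfsg.Agent.ConstFour.Sixty

open scoped ComplexConjugate Pointwise
open Module Cfsg.Agent.Char

universe v

/-- The arithmetic of the pole equation. -/
theorem arith {ι : Type*} (C : Finset ι) (a e : ι → ℕ) {n : ℕ} (hn : 2 ≤ n)
    (hc : ∀ c ∈ C, (e c = 1 ∨ e c = 2) ∧ 2 ≤ a c ∧ 2 * (e c * a c) ≤ n)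
    (hs : ∑ c ∈ C, ((a c : ℚ) - 1) / (e c * a c) = 1 - 1 / n) :
    n = 12 ∨ n = 24 ∨ n = 60 := by
  classical
  have hn0 : (0 : ℚ) < n := by exact_mod_cast (by omega : 0 < n)
  have hlt : (1 : ℚ) - 1 / n < 1 := by
    have := div_pos one_pos hn0
    linarith
  have hge : ∀ c ∈ C, (1 : ℚ) / 4 ≤ ((a c : ℚ) - 1) / (e c * a c) := fun c hcC => by
    obtain ⟨he, ha, -⟩ := hc c hcC
    have ha' : (2 : ℚ) ≤ a c := by exact_mod_cast ha
    rcases he with he | he <;> rw [he] <;> push_cast <;>
      rw [div_le_div_iff₀ (by norm_num) (by positivity)] <;> linarith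
  have hcard : C.card ≤ 3 := by
    by_contra hcon
    have h4 : (4 : ℚ) ≤ C.card := by exact_mod_cast (by omega : 4 ≤ C.card)
    have := Finset.card_nsmul_le_sum C _ _ hge
    rw [hs, nsmul_eq_mul] at this
    linarith
  -- natural forms of the three surviving shapes
  have one : ∀ {x f : ℕ}, (f = 1 ∨ f = 2) → 2 ≤ x → 2 * (f * x) ≤ n →
      ((x : ℚ) - 1) / (f * x) ≠ 1 - 1 / n := by
    intro x f hf hx hle he
    rw [div_eq_iff (by rcases hf with rfl | rfl <;> positivity)] at he
    field_simp at he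
    have hN : n * x + f * x = n + n * (f * x) := by
      have : ((n * x + f * x : ℕ) : ℚ) = ((n + n * (f * x) : ℕ) : ℚ) := by push_cast; linarith
      exact_mod_cast this
    rcases hf with rfl | rfl <;> nlinarith
  have two22 : ∀ {x y : ℕ}, 2 ≤ x → 2 ≤ y → 2 * (2 * x) ≤ n → 2 * (2 * y) ≤ n →
      ((x : ℚ) - 1) / (2 * x) + ((y : ℚ) - 1) / (2 * y) ≠ 1 - 1 / n := by
    intro x y hx hy hxn hyn he
    field_simp at he
    have hN : n * x + n * y = 2 * (x * y) := by
      have : ((n * x + n * y : ℕ) : ℚ) = ((2 * (x * y) : ℕ) : ℚ) := by push_cast; linarith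
      exact_mod_cast this
    nlinarith
  have two12 : ∀ {x y : ℕ}, 2 ≤ x → 2 ≤ y → 2 * x ≤ n → 2 * (2 * y) ≤ n →
      ((x : ℚ) - 1) / x + ((y : ℚ) - 1) / (2 * y) = 1 - 1 / n → n = 12 := by
    intro x y hx hy hxn hyn he
    field_simp at he
    have hN : n * (x + 2 * y) = n * (x * y) + 2 * (x * y) := by
      have : ((n * (x + 2 * y) : ℕ) : ℚ) = ((n * (x * y) + 2 * (x * y) : ℕ) : ℚ) := by
        push_cast; linarith
      exact_mod_cast this
    have hx3 : x ≤ 3 := by
      by_contra hcon
      have h4 : 4 ≤ x := by omega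
      have : x + 2 * y ≤ x * y := by nlinarith
      have := Nat.mul_le_mul_left n this
      nlinarith
    interval_cases x
    · nlinarith
    · have : y ≤ 2 := by
        by_contra hcon
        nlinarith
      interval_cases y
      omega
  have three : ∀ {x y z : ℕ}, 2 ≤ x → x ≤ y → y ≤ z → 2 * (2 * z) ≤ n →
      ((x : ℚ) - 1) / (2 * x) + ((y : ℚ) - 1) / (2 * y) + ((z : ℚ) - 1) / (2 * z) = 1 - 1 / n →
      n = 12 ∨ n = 24 ∨ n = 60 := by
    intro x y z hx hxy hyz hzn he
    have hy0 : 2 ≤ y := hx.trans hxy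
    have hz0 : 2 ≤ z := hy0.trans hyz
    field_simp at he
    have hN : n * (y * z + x * z + x * y) = x * (y * z) * (n + 2) := by
      have : ((n * (y * z + x * z + x * y) : ℕ) : ℚ) = ((x * (y * z) * (n + 2) : ℕ) : ℚ) := by
        push_cast; linarith
      exact_mod_cast this
    have hx2 : x = 2 := by
      by_contra hcon
      have h3 : 3 ≤ x := by omega
      have h1 : y * z + x * z + x * y ≤ 3 * (y * z) := by nlinarith
      have h2 := Nat.mul_le_mul_left n h1
      have h4 : 3 * (y * z) ≤ x * (y * z) := Nat.mul_le_mul_right _ h3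
      nlinarith
    subst hx2
    have hy3 : y ≤ 3 := by
      by_contra hcon
      have h1 : y * z + 2 * z + 2 * y ≤ 2 * (y * z) := by nlinarith
      have h2 := Nat.mul_le_mul_left n h1
      nlinarith
    interval_cases y
    · nlinarith
    · have hz5 : z ≤ 5 := by
        by_contra hcon
        nlinarith
      interval_cases z <;> omega
  have e1term : ∀ {x y z : ι}, x ∈ C → y ∈ C → z ∈ C →
      ((a x : ℚ) - 1) / (e x * a x) + ((a y : ℚ) - 1) / (e y * a y) +
        ((a z : ℚ) - 1) / (e z * a z) = 1 - 1 / n → e x = 2 := by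
    intro x y z hx hy hz h
    refine (hc x hx).1.resolve_left fun he => ?_
    have h1 : (1 : ℚ) / 2 ≤ ((a x : ℚ) - 1) / (e x * a x) := by
      have ha' : (2 : ℚ) ≤ a x := by exact_mod_cast (hc x hx).2.1
      rw [he, Nat.cast_one, one_mul, div_le_div_iff₀ (by norm_num) (by positivity)]
      linarith
    have := hge y hy
    have := hge z hz
    linarith
  rcases (show C.card = 0 ∨ C.card = 1 ∨ C.card = 2 ∨ C.card = 3 by omega) with h | h | h | h
  · rw [Finset.card_eq_zero.1 h, Finset.sum_empty, eq_comm, sub_eq_zero, eq_div_iff hn0.ne',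
      one_mul] at hs
    have : n = 1 := by exact_mod_cast hs
    omega
  · obtain ⟨x, rfl⟩ := Finset.card_eq_one.1 h
    obtain ⟨he, ha, hle⟩ := hc x (Finset.mem_singleton_self x)
    rw [Finset.sum_singleton] at hs
    exact absurd hs (one he ha hle)
  · obtain ⟨x, y, hxy, rfl⟩ := Finset.card_eq_two.1 h
    obtain ⟨hex, hax, hlx⟩ := hc x (by simp)
    obtain ⟨hey, hay, hly⟩ := hc y (by simp)
    rw [Finset.sum_pair hxy] at hs
    rcases hex with ex | ex <;> rcases hey with ey | ey <;>
      simp only [ex, ey, Nat.cast_one, Nat.cast_ofNat, one_mul] at hs hlx hly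
    · exfalso
      have hx' : (2 : ℚ) ≤ a x := by exact_mod_cast hax
      have hy' : (2 : ℚ) ≤ a y := by exact_mod_cast hay
      have h1 : (1 : ℚ) / 2 ≤ ((a x : ℚ) - 1) / a x := by
        rw [div_le_div_iff₀ (by norm_num) (by positivity)]; linarith
      have h2 : (1 : ℚ) / 2 ≤ ((a y : ℚ) - 1) / a y := by
        rw [div_le_div_iff₀ (by norm_num) (by positivity)]; linarith
      linarith
    · exact Or.inl (two12 hax hay hlx hly hs)
    · exact Or.inl (two12 hay hax hly hlx (by rw [add_comm]; exact hs))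
    · exact absurd hs (two22 hax hay hlx hly)
  · obtain ⟨x, y, z, hxy, hxz, hyz, rfl⟩ := Finset.card_eq_three.1 h
    rw [Finset.sum_insert (by simp [hxy, hxz]), Finset.sum_pair hyz, ← add_assoc] at hs
    have ex := e1term (x := x) (y := y) (z := z) (by simp) (by simp) (by simp) hs
    have ey := e1term (x := y) (y := x) (z := z) (by simp) (by simp) (by simp)
      (by rw [← hs]; ring)
    have ez := e1term (x := z) (y := y) (z := x) (by simp) (by simp) (by simp)
      (by rw [← hs]; ring)
    obtain ⟨-, hax, hlx⟩ := hc x (by simp)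
    obtain ⟨-, hay, hly⟩ := hc y (by simp)
    obtain ⟨-, haz, hlz⟩ := hc z (by simp)
    simp only [ex, ey, ez, Nat.cast_ofNat] at hs hlx hly hlz
    rcases le_total (a x) (a y) with h1 | h1 <;> rcases le_total (a y) (a z) with h2 | h2 <;>
      rcases le_total (a x) (a z) with h3 | h3
    · exact three hax h1 h2 hlz hs
    · exact three hax h1 h2 hlz hs
    · exact three hax h3 h2 hly (by rw [← hs]; ring)
    · exact three haz h3 h1 hly (by rw [← hs]; ring)
    · exact three hay h1 h3 hlz (by rw [← hs]; ring)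
    · exact three hay h2 h3 hlx (by rw [← hs]; ring)
    · exact three haz h2 h1 hlx (by rw [← hs]; ring)
    · exact three haz h2 h1 hlx (by rw [← hs]; ring)

theorem perfect_of_noLinear {G : Type v} [Group G] [Finite G] (hP : NoLinear G) :
    commutator G = ⊤ := by
  rw [← Subgroup.index_eq_one, ← card_linear, Nat.card_eq_one_iff_unique]
  refine ⟨⟨fun x y => ?_⟩, ⟨⟨⟨_, isIrrCharacter_one⟩, rfl⟩⟩⟩
  obtain ⟨f, hf⟩ := IsChar.exists_hom (IsIrr.isCharacter x.1.2) x.2
  obtain ⟨f', hf'⟩ := IsChar.exists_hom (IsIrr.isCharacter y.1.2) y.2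
  exact Subtype.ext (Subtype.ext (by rw [hf, hf', hP f, hP f']))

theorem not_solvable {G : Type v} [Group G] [Finite G] [Nontrivial G] (hP : NoLinear G) :
    ¬ Group.IsSolvable G := fun h =>
  (Group.IsSolvable.commutator_lt_top_of_nontrivial (G := G)).ne (perfect_of_noLinear hP)

theorem noLinear_quotient {G : Type v} [Group G] (hP : NoLinear G) (N : Subgroup G) [N.Normal] :
    NoLinear (G ⧸ N) := fun f => by
  refine MonoidHom.ext fun q => ?_
  obtain ⟨g, rfl⟩ := QuotientGroup.mk_surjective q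
  exact DFunLike.congr_fun (hP (f.comp (QuotientGroup.mk' N))) g

variable {L : Type v} [Group L] (ρ : Representation ℂ L (Fin 3 → ℂ))

/-- The stabilizer of a vector. -/
def fixer (v : Fin 3 → ℂ) : Subgroup L where
  carrier := {x | ρ x v = v}
  one_mem' := by simp
  mul_mem' {a b} ha hb := by
    show ρ (a * b) v = v
    rw [map_mul, Module.End.mul_apply, show ρ b v = v from hb, show ρ a v = v from ha]
  inv_mem' {a} ha := by
    show ρ a⁻¹ v = v
    conv_lhs => rw [← show ρ a v = v from ha]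
    rw [ρ.inv_self_apply]

theorem mem_fixer {v : Fin 3 → ℂ} {x : L} : x ∈ fixer ρ v ↔ ρ x v = v := Iff.rfl

theorem fixer_smul {v : Fin 3 → ℂ} {c : ℂ} (hc : c ≠ 0) : fixer ρ (c • v) = fixer ρ v := by
  ext x
  simp only [mem_fixer, map_smul]
  exact ⟨fun h => (smul_right_injective _ hc) h, fun h => by rw [h]⟩

theorem smul_fixer (x : L) (v : Fin 3 → ℂ) :
    ConjAct.toConjAct x • fixer ρ v = fixer ρ (ρ x v) := by
  ext y
  rw [Subgroup.mem_pointwise_smul_iff_inv_smul_mem, mem_fixer, mem_fixer, ← map_inv,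
    ConjAct.toConjAct_smul, inv_inv, map_mul, map_mul, Module.End.mul_apply, Module.End.mul_apply]
  constructor
  · intro h
    have := congrArg (ρ x) h
    rwa [ρ.self_inv_apply] at this
  · intro h
    rw [h, ρ.inv_self_apply]

variable [Finite L]

theorem fixed_line (hP : NoLinear L) (hf : ∀ g, ρ g = 1 → g = 1)
    (hr : ∀ g, conj (ρ.character g) = ρ.character g) {g : L} (hg : g ≠ 1) :
    ∃ v : Fin 3 → ℂ, v ≠ 0 ∧ ∀ x, ρ g x = x ↔ ∃ c : ℂ, x = c • v := by
  obtain ⟨μ, b, hb, hn, hχ, hp⟩ := exists_eigen hP ρ g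
  rw [Fin.sum_univ_three] at hχ
  rw [Fin.prod_univ_three] at hp
  have e2 := hr g
  rw [hχ, map_add, map_add, conj_eq_inv (hn 0), conj_eq_inv (hn 1), conj_eq_inv (hn 2),
    inv_eq_of_mul_eq_one_right (a := μ 0) (b := μ 1 * μ 2) (by linear_combination hp),
    inv_eq_of_mul_eq_one_right (a := μ 1) (b := μ 0 * μ 2) (by linear_combination hp),
    inv_eq_of_mul_eq_one_right (a := μ 2) (b := μ 0 * μ 1) (by linear_combination hp)] at e2
  have hzero : (μ 0 - 1) * (μ 1 - 1) * (μ 2 - 1) = 0 := by linear_combination hp - e2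
  obtain ⟨i, hi⟩ : ∃ i, μ i = 1 := by
    simp only [mul_eq_zero, sub_eq_zero] at hzero
    rcases hzero with (h | h) | h <;> exact ⟨_, h⟩
  have huniq : ∀ j, μ j = 1 → j = i := by
    intro j hj
    by_contra hne
    refine hg (hf g (b.ext fun k => ?_))
    rw [hb, Module.End.one_apply]
    have : μ k = 1 := by
      fin_cases i <;> fin_cases j <;> first
        | exact absurd rfl hne
        | (fin_cases k <;> first
          | exact hi
          | exact hj
          | (simp only [Fin.zero_eta, Fin.mk_one, Fin.reduceFinMk] at hi hj ⊢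
             rw [hi, hj] at hp
             simpa using hp))
    rw [this, one_smul]
  refine ⟨b i, b.ne_zero i, fun x => ⟨fun h => ⟨b.repr x i, ?_⟩, ?_⟩⟩
  · have key : ∀ j, b.repr (ρ g x) j = μ j * b.repr x j := fun j => by
      have e : (b.coord j).comp (ρ g) = μ j • b.coord j := b.ext fun k => by
        simp only [LinearMap.comp_apply, LinearMap.smul_apply, Basis.coord_apply, hb, map_smul,
          Basis.repr_self, Finsupp.smul_apply, smul_eq_mul]
        rcases eq_or_ne k j with rfl | hkj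
        · rfl
        · simp [hkj]
      exact LinearMap.congr_fun e x
    refine b.ext_elem fun j => ?_
    rcases eq_or_ne j i with rfl | hji
    · simp
    · have h1 := key j
      rw [h] at h1
      have h2 : (μ j - 1) * b.repr x j = 0 := by linear_combination -h1
      rcases mul_eq_zero.1 h2 with h3 | h3
      · exact absurd (huniq j (sub_eq_zero.1 h3)) hji
      · simp [h3, Ne.symm hji]
  · rintro ⟨c, rfl⟩
    rw [map_smul, hb, hi, one_smul]

theorem sum_twist_ne_zero {N : Type v} [Group N] [Fintype N] (σ : Representation ℂ N (Fin 3 → ℂ)) :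
    (∃ w : Fin 3 → ℂ, w ≠ 0 ∧ ∀ x, σ x w = w) ↔ ∑ x, σ.character x ≠ 0 := by
  have : Invertible (Nat.card N : ℂ) := invertibleOfNonzero card_ne_zero
  have h := σ.card_inv_mul_sum_char_eq_finrank
  rw [← mul_ne_zero_iff_left (a := (Nat.card N : ℂ)⁻¹) (inv_ne_zero card_ne_zero), h,
    Nat.cast_ne_zero, ← Nat.pos_iff_ne_zero, Module.finrank_pos_iff, nontrivial_iff_exists_ne (0 : σ.invariants)]
  exact ⟨fun ⟨w, hw, hfix⟩ => ⟨⟨w, hfix⟩, fun e => hw (congrArg Subtype.val e)⟩,
    fun ⟨w, hw⟩ => ⟨w.1, fun e => hw (Subtype.ext e), w.2⟩⟩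

variable {ρ}

theorem character_twist {N : Type v} [Group N] (σ : Representation ℂ N (Fin 3 → ℂ)) (l : N →* ℂˣ) :
    ∃ τ : Representation ℂ N (Fin 3 → ℂ), ∀ x, τ x = (l x : ℂ) • σ x :=
  ⟨{ toFun := fun x => (l x : ℂ) • σ x
     map_one' := by simp
     map_mul' := fun x y => by
       rw [map_mul, map_mul, Units.val_mul, smul_mul_smul_comm] }, fun _ => rfl⟩

/-- The stabilizer of a fixed line acts on it by signs. -/
theorem sign_of_stabilizes (hr : ∀ g, conj (ρ.character g) = ρ.character g) {g : L}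
    {v : Fin 3 → ℂ} (hv : v ≠ 0) (hfix : ∀ x, ρ g x = x ↔ ∃ c : ℂ, x = c • v)
    {N : Subgroup L} (hgN : g ∈ N) (l : N →* ℂˣ) (hl : ∀ x : N, ρ x v = (l x : ℂ) • v) (x : N) :
    (l x : ℂ) * l x = 1 := by
  have := Fintype.ofFinite N
  let σ : Representation ℂ N (Fin 3 → ℂ) := ρ.comp N.subtype
  have hσ : ∀ y, σ y = ρ (y : L) := fun _ => rfl
  obtain ⟨τ, hτ⟩ := character_twist σ l⁻¹
  obtain ⟨τ', hτ'⟩ := character_twist σ l
  have h1 : ∑ y, τ.character y ≠ 0 := (sum_twist_ne_zero τ).1 ⟨v, hv, fun y => by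
    rw [hτ, LinearMap.smul_apply, hσ, hl, smul_smul]; simp⟩
  have hnorm : ∀ y, ‖(l y : ℂ)‖ = 1 := fun y => by
    refine Complex.norm_eq_one_of_pow_eq_one ?_ (orderOf_pos y).ne'
    rw [← Units.val_pow_eq_pow_val, ← map_pow, pow_orderOf_eq_one, map_one, Units.val_one]
  have h2 : ∑ y, τ'.character y ≠ 0 := by
    intro h0
    refine h1 ?_
    have := congrArg conj h0
    rw [map_zero, map_sum] at this
    rw [← this]
    refine Finset.sum_congr rfl fun y _ => ?_
    simp only [Representation.character, hτ, hτ', map_smul, smul_eq_mul, map_mul,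
      conj_eq_inv (hnorm y)]
    rw [show conj (LinearMap.trace ℂ (Fin 3 → ℂ) (σ y)) = LinearMap.trace ℂ _ (σ y) from hr y]
    simp
  obtain ⟨w, hw, hw'⟩ := (sum_twist_ne_zero τ').2 h2
  have hg1 : (l ⟨g, hgN⟩ : ℂ) = 1 := by
    have h4 := (hfix v).2 ⟨1, (one_smul ℂ v).symm⟩
    have h5 := hl ⟨g, hgN⟩
    rw [show ρ ((⟨g, hgN⟩ : N) : L) v = ρ g v from rfl, h4] at h5
    exact (smul_left_injective ℂ hv (by simpa using h5)).symm
  have h6 := hw' ⟨g, hgN⟩
  rw [hτ', LinearMap.smul_apply, hσ, hg1, one_smul] at h6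
  obtain ⟨c, rfl⟩ := (hfix w).1 h6
  have h7 := hw' x
  rw [hτ', LinearMap.smul_apply, hσ, map_smul, hl, smul_smul, smul_smul] at h7
  have hc : c ≠ 0 := fun e => hw (by rw [e, zero_smul])
  have h8 : (l x : ℂ) * (c * l x) = c := smul_left_injective ℂ hv (by simpa only [mul_assoc] using h7)
  exact mul_left_cancel₀ hc (by linear_combination h8)

/-- A perfect finite group with a faithful irreducible real character of degree three has
order sixty. -/
theorem card_eq_sixty (hP : NoLinear L) (hirr : ρ.IsIrreducible) (hf : ∀ g, ρ g = 1 → g = 1)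
    (hr : ∀ g, conj (ρ.character g) = ρ.character g) : Nat.card L = 60 := by
  classical
  have := Fintype.ofFinite L
  have hne : ∀ v : Fin 3 → ℂ, v ≠ 0 → ¬ ∀ x : L, ∃ c : ℂ, ρ x v = c • v := by
    intro v hv h
    rcases (isIrreducible_iff.1 hirr).2 (Submodule.span ℂ {v}) (fun x w hw => by
      obtain ⟨d, rfl⟩ := Submodule.mem_span_singleton.1 hw
      obtain ⟨c, hc⟩ := h x
      rw [map_smul, hc, smul_smul]
      exact Submodule.mem_span_singleton.2 ⟨_, rfl⟩) with e | e
    · exact hv (by simpa using e)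
    · have := finrank_span_singleton (K := ℂ) hv
      rw [e, finrank_top, Module.finrank_fin_fun] at this
      omega
  have hnt : Nontrivial L := by
    by_contra hn
    rw [not_nontrivial_iff_subsingleton] at hn
    refine hne (Pi.single 0 1) (by simp) fun x => ⟨1, ?_⟩
    rw [Subsingleton.elim x 1, map_one, one_smul]; rfl
  have hex : ∀ g : L, ∃ v : Fin 3 → ℂ, g ≠ 1 →
      v ≠ 0 ∧ ∀ x, ρ g x = x ↔ ∃ c : ℂ, x = c • v := fun g => by
    rcases eq_or_ne g 1 with e | e
    · exact ⟨0, fun h => absurd e h⟩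
    · obtain ⟨v, hv⟩ := fixed_line ρ hP hf hr e
      exact ⟨v, fun _ => hv⟩
  choose v hv using hex
  let P : L → Subgroup L := fun g => fixer ρ (v g)
  have hmem : ∀ {g}, g ≠ 1 → g ∈ P g := fun {g} hg =>
    ((hv g hg).2 (v g)).2 ⟨1, (one_smul ℂ _).symm⟩
  have hline : ∀ {g h}, g ≠ 1 → h ≠ 1 → h ∈ P g → P h = P g := by
    intro g h hg hh hmem'
    obtain ⟨c, hc⟩ := ((hv h hh).2 (v g)).1 hmem'
    have : c ≠ 0 := fun e => (hv g hg).1 (by rw [hc, e, zero_smul])
    show fixer ρ (v h) = fixer ρ (v g)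
    rw [hc, fixer_smul ρ this]
  have hsm : ∀ (x : L) {g}, g ≠ 1 → ConjAct.toConjAct x • P g = P (x * g * x⁻¹) := by
    intro x g hg
    have hh : x * g * x⁻¹ ≠ 1 := fun e => hg (conj_eq_one_iff.1 e)
    obtain ⟨c, hc⟩ := ((hv _ hh).2 (ρ x (v g))).1 (by
      rw [map_mul, map_mul, Module.End.mul_apply, Module.End.mul_apply, ρ.inv_self_apply,
        show ρ g (v g) = v g from hmem hg])
    show ConjAct.toConjAct x • fixer ρ (v g) = fixer ρ (v (x * g * x⁻¹))
    rw [smul_fixer, hc, fixer_smul ρ]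
    intro e
    rw [e, zero_smul] at hc
    have := congrArg (ρ x⁻¹) hc
    rw [ρ.inv_self_apply, map_zero] at this
    exact (hv g hg).1 this
  -- the stabilizer of each pole
  have hstab : ∀ g : L, g ≠ 1 → ∃ f : ℕ, (f = 1 ∨ f = 2) ∧
      Nat.card (MulAction.stabilizer (ConjAct L) (P g)) = f * Nat.card (P g) ∧
      2 * (f * Nat.card (P g)) ≤ Nat.card L := by
    intro g hg
    set N : Subgroup L := (MulAction.stabilizer (ConjAct L) (P g)).comap
      (ConjAct.toConjAct : L ≃* ConjAct L).toMonoidHom with hN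
    have hcN : Nat.card N = Nat.card (MulAction.stabilizer (ConjAct L) (P g)) :=
      Nat.card_congr ((ConjAct.toConjAct : L ≃* ConjAct L).toEquiv.subtypeEquiv fun _ => Iff.rfl)
    have hNc : ∀ x : N, ∃ c : ℂ, ρ (x : L) (v g) = c • v g := fun x => by
      have hx : ConjAct.toConjAct (x : L) • P g = P g := x.2
      have h1 : g ∈ fixer ρ (ρ (x : L) (v g)) := by
        rw [← smul_fixer]; exact hx.symm ▸ hmem hg
      exact ((hv g hg).2 _).1 h1
    choose c hc using hNc
    have hcone : c 1 = 1 := smul_left_injective ℂ (hv g hg).1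
      (show c 1 • v g = (1 : ℂ) • v g by rw [← hc]; simp)
    let l : N →* ℂˣ := MonoidHom.toHomUnits
      { toFun := c
        map_one' := hcone
        map_mul' := fun x y => smul_left_injective ℂ (hv g hg).1
          (show c (x * y) • v g = (c x * c y) • v g by
            rw [← hc, Subgroup.coe_mul, map_mul, Module.End.mul_apply, hc, map_smul, hc,
              smul_smul, mul_comm]) }
    have hl : ∀ x : N, ρ x (v g) = (l x : ℂ) • v g := fun x => hc x
    have hPN : P g ≤ N := fun y hy => by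
      show ConjAct.toConjAct y • fixer ρ (v g) = fixer ρ (v g)
      rw [smul_fixer, show ρ y (v g) = v g from hy]
    have hker : l.ker = (P g).subgroupOf N := by
      ext x
      rw [MonoidHom.mem_ker, Subgroup.mem_subgroupOf, Units.ext_iff, Units.val_one]
      show _ ↔ ρ (x : L) (v g) = v g
      rw [hl]
      exact ⟨fun e => by rw [e, one_smul],
        fun e => smul_left_injective ℂ (hv g hg).1 (by simpa using e)⟩
    have hrange : Nat.card l.range ≤ 2 := by
      have hsub : ∀ z : l.range, (z : ℂˣ) = 1 ∨ (z : ℂˣ) = -1 := by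
        rintro ⟨_, x, rfl⟩
        have := sign_of_stabilizes hr (hv g hg).1 (hv g hg).2 (hPN (hmem hg)) l hl x
        rcases mul_self_eq_one_iff.1 this with e | e
        · exact Or.inl (Units.ext e)
        · exact Or.inr (Units.ext (by simpa using e))
      refine (Nat.card_le_card_of_injective (fun z : l.range => decide ((z : ℂˣ) = 1)) ?_).trans
        (by simp)
      intro y z e
      simp only [decide_eq_decide] at e
      rcases hsub y with hy | hy <;> rcases hsub z with hz | hz
      · exact Subtype.ext (hy.trans hz.symm)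
      · exact Subtype.ext ((e.1 hy).symm ▸ hy)
      · exact Subtype.ext ((e.2 hz).trans hz.symm)
      · exact Subtype.ext (hy.trans hz.symm)
    have hcard : Nat.card N = Nat.card l.range * Nat.card (P g) := by
      rw [← l.ker.card_mul_index, Subgroup.index_ker, hker,
        Nat.card_congr (Subgroup.subgroupOfEquivOfLe hPN).toEquiv, mul_comm]
    refine ⟨Nat.card l.range, ?_, hcN ▸ hcard, ?_⟩
    · have := Nat.card_pos (α := l.range)
      omega
    · rw [← hcard]
      have hNtop : N ≠ ⊤ := fun e => hne (v g) (hv g hg).1 fun x =>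
        ⟨_, hc ⟨x, e ▸ Subgroup.mem_top x⟩⟩
      have h1 := N.card_mul_index
      have h2 := N.one_lt_index_of_ne_top hNtop
      rw [← h1]
      nlinarith [Nat.mul_le_mul_left (Nat.card N) h2]
  -- counting
  let S : Finset L := Finset.univ.erase 1
  let K : Finset (Subgroup L) := S.image P
  let orb : Subgroup L → Set (Subgroup L) := fun H => MulAction.orbit (ConjAct L) H
  let C : Finset (Set (Subgroup L)) := K.image orb
  have hfib : ∀ H ∈ K, (S.filter fun g => P g = H).card = Nat.card H - 1 := by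
    intro H hH
    obtain ⟨g, hg, rfl⟩ := Finset.mem_image.1 hH
    have hg1 := (Finset.mem_erase.1 hg).1
    have : (S.filter fun h => P h = P g) = (Finset.univ.filter fun h => h ∈ P g).erase 1 := by
      ext h
      simp only [S, Finset.mem_filter, Finset.mem_erase, Finset.mem_univ, and_true, true_and]
      exact ⟨fun ⟨h1, h2⟩ => ⟨h1, h2 ▸ hmem h1⟩, fun ⟨h1, h2⟩ => ⟨h1, hline hg1 h1 h2⟩⟩
    rw [this, Finset.card_erase_of_mem (by simp), Nat.card_eq_fintype_card, Fintype.card_subtype]
  have hKinv : ∀ H ∈ K, ∀ H' ∈ orb H, H' ∈ K := by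
    intro H hH H' hH'
    obtain ⟨g, hg, rfl⟩ := Finset.mem_image.1 hH
    obtain ⟨x, rfl⟩ := hH'
    obtain ⟨y, rfl⟩ := ConjAct.toConjAct.surjective x
    have hg1 := (Finset.mem_erase.1 hg).1
    show ConjAct.toConjAct y • P g ∈ K
    rw [hsm y hg1]
    exact Finset.mem_image_of_mem P (Finset.mem_erase.2
      ⟨fun e => hg1 (conj_eq_one_iff.1 e), Finset.mem_univ _⟩)
  have hrep : ∀ c ∈ C, ∃ g : L, g ≠ 1 ∧ orb (P g) = c := by
    intro c hc
    obtain ⟨H, hH, rfl⟩ := Finset.mem_image.1 hc
    obtain ⟨g, hg, rfl⟩ := Finset.mem_image.1 hH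
    exact ⟨g, (Finset.mem_erase.1 hg).1, rfl⟩
  choose! g hg1 hgc using hrep
  choose! f hf2 hfcard hfle using hstab
  have hn : 2 ≤ Nat.card L := Finite.one_lt_card
  have hna : ∀ c ∈ C, 2 ≤ Nat.card (P (g c)) := fun c hc => by
    have : Nontrivial (P (g c)) := ⟨⟨g c, hmem (hg1 c hc)⟩, 1,
      fun e => hg1 c hc (congrArg Subtype.val e)⟩
    exact Finite.one_lt_card
  have key : ∀ c ∈ C, (((∑ H ∈ K.filter (fun H => orb H = c), (Nat.card H - 1) : ℕ)) : ℚ) =
      Nat.card L * (((Nat.card (P (g c)) : ℚ) - 1) / (f (g c) * Nat.card (P (g c)))) := by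
    intro c hc
    have hconst : ∀ H ∈ K.filter (fun H => orb H = c), Nat.card H - 1 = Nat.card (P (g c)) - 1 := by
      intro H hH
      have : H ∈ orb (P (g c)) := by
        rw [hgc c hc, ← (Finset.mem_filter.1 hH).2]; exact MulAction.mem_orbit_self H
      obtain ⟨x, rfl⟩ := this
      show Nat.card (x • P (g c) : Subgroup L) - 1 = _
      rw [← Nat.card_congr (Subgroup.equivSMul x (P (g c))).toEquiv]
    have hcardfib : (K.filter fun H => orb H = c).card = Nat.card (orb (P (g c))) := by
      rw [← Set.ncard_coe_finset, ← Nat.card_coe_set_eq]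
      refine Nat.card_congr (Equiv.setCongr ?_)
      ext H
      simp only [Finset.coe_filter, Set.mem_setOf_eq]
      rw [hgc c hc]
      constructor
      · rintro ⟨-, rfl⟩
        exact MulAction.mem_orbit_self H
      · intro hH
        rw [← hgc c hc] at hH
        refine ⟨hKinv _ (Finset.mem_image_of_mem P (Finset.mem_erase.2
          ⟨hg1 c hc, Finset.mem_univ _⟩)) H hH, ?_⟩
        rw [← hgc c hc]
        exact MulAction.orbit_eq_iff.2 hH
    rw [Finset.sum_congr rfl hconst, Finset.sum_const, smul_eq_mul, hcardfib]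
    have h3 : Nat.card (orb (P (g c))) * (f (g c) * Nat.card (P (g c))) = Nat.card L := by
      rw [← hfcard _ (hg1 c hc), Nat.card_coe_set_eq, ← MulAction.index_stabilizer,
        mul_comm, Subgroup.card_mul_index]
      exact Nat.card_congr ConjAct.ofConjAct.toEquiv
    have ha := hna c hc
    have hf0 : f (g c) ≠ 0 := by rcases hf2 _ (hg1 c hc) with e | e <;> omega
    rw [← h3]
    push_cast [Nat.cast_sub (by omega : 1 ≤ Nat.card (P (g c)))]
    have : (0 : ℚ) < Nat.card (P (g c)) := by exact_mod_cast (by omega : 0 < Nat.card (P (g c)))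
    have : (f (g c) : ℚ) ≠ 0 := Nat.cast_ne_zero.2 hf0
    field_simp
  have hsum : ∑ c ∈ C, ((Nat.card (P (g c)) : ℚ) - 1) / (f (g c) * Nat.card (P (g c))) =
      1 - 1 / Nat.card L := by
    have h1 : S.card = ∑ c ∈ C, ∑ H ∈ K.filter (fun H => orb H = c), (Nat.card H - 1) := by
      rw [Finset.sum_fiberwise_of_maps_to (fun H hH => Finset.mem_image_of_mem orb hH),
        Finset.card_eq_sum_card_image P S]
      exact Finset.sum_congr rfl hfib
    have h2 : (S.card : ℚ) = (Nat.card L : ℚ) - 1 := by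
      rw [Finset.card_erase_of_mem (Finset.mem_univ _), Finset.card_univ,
        ← Nat.card_eq_fintype_card, Nat.cast_sub (by omega)]; simp
    rw [h1, Nat.cast_sum, Finset.sum_congr rfl key, ← Finset.mul_sum] at h2
    have hn0 : (Nat.card L : ℚ) ≠ 0 := by exact_mod_cast (by omega : Nat.card L ≠ 0)
    rw [one_sub_div hn0, eq_div_iff hn0]
    linear_combination h2
  rcases arith C _ _ hn (fun c hc => ⟨hf2 _ (hg1 c hc), hna c hc, hfle _ (hg1 c hc)⟩) hsum with
    h | h | h
  · exact absurd (S3378.small_solvable (by rw [h]; norm_num) (by omega)) (not_solvable hP)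
  · exact absurd (S3378.small_solvable (by rw [h]; norm_num) (by omega)) (not_solvable hP)
  · exact h

theorem normal_eq_bot {G : Type v} [Group G] [Finite G] (hP : NoLinear G) (h : Nat.card G = 60)
    {M : Subgroup G} [M.Normal] (hM : M ≠ ⊤) : M = ⊥ := by
  by_contra hb
  have : Nontrivial (G ⧸ M) := QuotientGroup.nontrivial_iff.2 hM
  have h1 := M.card_mul_index
  have h2 : 1 < Nat.card M := M.one_lt_card_iff_ne_bot.2 hb
  have h3 : Nat.card (G ⧸ M) = M.index := rfl
  rw [h] at h1
  refine not_solvable (noLinear_quotient hP M) (S3378.small_solvable ?_ ?_)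
  · rw [h3]
    exact dvd_trans (Dvd.intro_left _ h1) (by norm_num)
  · rw [h3]; nlinarith

end Cfsg.Agent.ConstFour.Sixty
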