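import Cfsg.Agent.ConstFour.Three
import Cfsg.Agent.ConstFour.Sixty

/-!
# The kernel and the four nonvanishing characters
-/

namespace Cfsg.Agent.ConstFour

open scoped ComplexConjugate
open Cfsg.Agent.Char

universe v
variable {G : Type v} [Group G] [Finite G] {u : G}

theorem cj_red (θ : G → ℂ) : cj (red θ) = red θ := by
  funext g
  simp [red, mul_comm]

/-- The first constituent of `red θ` is real. -/
theorem cj_of_red [Fintype G] {θ a b : G → ℂ} (ha : IsThree u a) (hb : IsN u b) (hb5 : deg b = 5)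
    (e : red θ = a + b) : cj a = a := by
  have ia := ha.1
  have ica := isIrr_cj ha.1
  have hsym : cj a + cj b = a + b := by
    rw [← e, ← cj_red θ, e]
    funext g; simp
  by_contra hne
  have h' := congrArg (fun f => classInner f (cj a)) hsym
  simp only [classInner_add_left, classInner_irr_self ica,
    classInner_irr_ne ia ica (Ne.symm hne)] at h'
  rw [classInner_irr_ne hb.1 ica fun he => ?_,
    classInner_irr_ne (isIrr_cj hb.1) ica fun he => ?_] at h'
  · norm_num at h'
  · have := congrFun he 1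
    simp only [cj_apply, deg_eq (IsIrr.isCharacter hb.1), hb5, ha.2.1,
      Complex.conj_natCast, Complex.conj_ofNat] at this
    norm_num at this
  · have := congrFun he 1
    simp only [cj_apply, deg_eq (IsIrr.isCharacter hb.1), hb5, ha.2.1, Complex.conj_ofNat] at this
    norm_num at this

/-- The constituent of degree five of `θ * θ`. -/
noncomputable def five (θ : G → ℂ) : G → ℂ := red θ - θ

theorem IsThree.five_spec (H : Hyp u) {θ : G → ℂ} (h : IsThree u θ) (hr : cj θ = θ) :
    IsN u (five θ) ∧ deg (five θ) = 5 ∧ red θ = θ + five θ := by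
  have := Fintype.ofFinite G
  obtain ⟨hΦc, hΦk, hΦ1, hΦu, hΦ0⟩ := h.red_props H
  have hc := IsIrr.isCharacter h.1
  have hne : classInner (red θ) θ ≠ 0 := by
    have hadd : θ * cj θ = sym θ + θ := by
      funext g
      have e1 := alt_three H.noLinear hc h.2.1 g
      have e2 := congrFun hr g
      simp only [alt, cj_apply] at e1 e2
      simp only [sym, Pi.mul_apply, Pi.add_apply, cj_apply, e2]
      linear_combination e1 + e2
    obtain ⟨k, hk⟩ := classInner_isCharacter_eq_natCast (isCharacter_sym hc) hc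
    have h10 : classInner (fun _ : G => (1 : ℂ)) θ = 0 := by
      refine classInner_irr_ne isIrrCharacter_one h.1 fun e => ?_
      have := congrFun e 1
      rw [h.2.1] at this
      norm_num at this
    rw [red, classInner_sub_left, hadd, classInner_add_left, hk, classInner_irr_self h.1, h10,
      sub_zero]
    exact_mod_cast Nat.succ_ne_zero k
  rcases H.eight hΦc hΦk hΦ1 hΦu hΦ0 with ⟨a, b, ha, hb, hb5, e⟩ | ⟨hcase, -⟩
  · have hat : a = θ := by
      by_contra hat
      refine hne ?_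
      rw [e, classInner_add_left, classInner_irr_ne ha.1 h.1 hat,
        classInner_irr_ne hb.1 h.1 fun he => ?_, add_zero]
      have := congrFun he 1
      rw [deg_eq (IsIrr.isCharacter hb.1), hb5, h.2.1] at this
      norm_num at this
    subst hat
    have hb' : five a = b := by rw [five, e]; abel
    rw [hb']
    exact ⟨hb, hb5, e⟩
  · exact absurd (hcase θ h.1 (by rw [h.2.2]; norm_num)) hne

/-- The product of two different characters of degree three. -/
theorem IsThree.red_inner [Fintype G] (H : Hyp u) {φ θ : G → ℂ} (hφ : IsThree u φ)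
    (hθ : IsThree u θ) (hr : cj θ = θ) (hne : φ ≠ θ) :
    classInner (red φ) (red θ) = 1 ∨ classInner (red φ) (red θ) = 3 := by
  have hc := IsIrr.isCharacter hφ.1
  have hd := IsIrr.isCharacter hθ.1
  obtain ⟨-, -, -, -, hA⟩ := hφ.red_props H
  obtain ⟨-, -, -, -, hB⟩ := hθ.red_props H
  have hB' : classInner (fun _ : G => (1 : ℂ)) (red θ) = 0 := by
    rw [← classInner_conj_symm, hB, map_zero]
  have key : classInner (φ * θ) (φ * θ) = classInner (red φ) (red θ) + 1 := by
    have e1 : classInner (φ * θ) (φ * θ) = classInner (φ * cj φ) (θ * cj θ) := by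
      simp only [classInner, Pi.mul_apply, cj_apply, map_mul, Complex.conj_conj]
      congr 1
      refine Finset.sum_congr rfl fun g _ => ?_
      have e2 := congrFun hr g
      simp only [cj_apply] at e2
      rw [e2]; ring
    rw [e1, show φ * cj φ = red φ + fun _ => (1 : ℂ) by simp [red],
      show θ * cj θ = red θ + fun _ => (1 : ℂ) by simp [red], classInner_add_left,
      classInner_add_right, classInner_add_right, hA, hB',
      classInner_irr_self isIrrCharacter_one]
    ring
  have h0 : classInner (φ * θ) (fun _ => (1 : ℂ)) = 0 := by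
    rw [classInner_move, show cj θ * (fun _ : G => (1 : ℂ)) = cj θ from mul_one (cj θ), hr,
      classInner_irr_ne hφ.1 hθ.1 hne]
  rcases H.nine (isCharacter_mul hc hd)
    (by simp only [Pi.mul_apply, hφ.sq_mem H, hθ.sq_mem H])
    (by simp only [Pi.mul_apply, hφ.2.1, hθ.2.1]; norm_num)
    (by simp only [Pi.mul_apply, hφ.2.2, hθ.2.2]; norm_num) h0 with e | e
  · left; linear_combination e - key
  · right; linear_combination e - key

theorem IsThree.five_eq (H : Hyp u) {φ θ : G → ℂ} (hφ : IsThree u φ) (hθ : IsThree u θ)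
    (hrφ : cj φ = φ) (hrθ : cj θ = θ) : five φ = five θ := by
  have := Fintype.ofFinite G
  rcases eq_or_ne φ θ with rfl | hne
  · rfl
  obtain ⟨hN, h5, e⟩ := hφ.five_spec H hrφ
  obtain ⟨hN', h5', e'⟩ := hθ.five_spec H hrθ
  have hx : ∀ {a b : G → ℂ}, IsThree u a → IsN u b → deg b = 5 → a ≠ b := fun ha hb hb5 he => by
    have := congrFun he 1
    rw [ha.2.1, deg_eq (IsIrr.isCharacter hb.1), hb5] at this
    norm_num at this
  by_contra hh
  rcases hφ.red_inner H hθ hrθ hne with h | h <;>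
    rw [e, e', classInner_add_left, classInner_add_right, classInner_add_right,
      classInner_irr_ne hφ.1 hθ.1 hne, classInner_irr_ne hφ.1 hN'.1 (hx hφ hN' h5'),
      classInner_irr_ne hN.1 hθ.1 (hx hθ hN h5).symm, classInner_irr_ne hN.1 hN'.1 hh] at h <;>
    norm_num at h

/-- The kernel data attached to a real character of degree three. -/
structure Kern (u : G) (N : Subgroup G) (θ θ' X : G → ℂ) : Prop where
  hyp : Hyp u
  normal : N.Normal
  card_quot : N.index = 60
  maximal : ∀ M : Subgroup G, M.Normal → N ≤ M → M ≠ ⊤ → M = N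
  th : IsThree u θ
  th_real : cj θ = θ
  th' : IsThree u θ'
  th'_real : cj θ' = θ'
  ne : θ ≠ θ'
  five_eq : X = five θ
  ker : ∀ g, g ∈ N ↔ θ g = θ 1
  ker' : ∀ g, g ∈ N ↔ θ' g = θ' 1
  others : ∀ χ : G → ℂ, IsIrrCharacter G χ →
    χ = (fun _ => (1 : ℂ)) ∨ χ = θ ∨ χ = θ' ∨ χ = X ∨ χ u = 0

theorem exists_kernel_rep {θ : G → ℂ} (h : IsIrrCharacter G θ) (h1 : θ 1 = 3)
    (N : Subgroup G) [N.Normal] (hN : ∀ g, g ∈ N ↔ θ g = θ 1) :
    ∃ ρ : Representation ℂ (G ⧸ N) (Fin 3 → ℂ), ρ.IsIrreducible ∧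
      (∀ g : G, ρ.character (QuotientGroup.mk g) = θ g) ∧ ∀ q, ρ q = 1 → q = 1 := by
  obtain ⟨φ, hφ, he⟩ := IsIrr.exists_quotient N h fun n hn => (hN n).1 hn
  obtain ⟨n, ρ, hρ, rfl⟩ := hφ
  have hn : n = 3 := by
    have h2 := he 1
    rw [h1, show (QuotientGroup.mk (1 : G) : G ⧸ N) = 1 from rfl, ρ.char_one,
      Module.finrank_fin_fun] at h2
    exact_mod_cast h2.symm
  subst hn
  refine ⟨ρ, hρ, fun g => (he g).symm, fun q hq => ?_⟩
  obtain ⟨g, rfl⟩ := QuotientGroup.mk_surjective q
  refine (QuotientGroup.eq_one_iff g).2 ((hN g).2 ?_)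
  rw [he g, he 1]
  show LinearMap.trace ℂ _ (ρ _) = LinearMap.trace ℂ _ (ρ _)
  rw [hq, show (QuotientGroup.mk (1 : G) : G ⧸ N) = 1 from rfl, MonoidHom.map_one ρ]

theorem maximal_of_card (hP : NoLinear G) (N : Subgroup G) [N.Normal] (h : N.index = 60)
    (M : Subgroup G) (hM : M.Normal) (hNM : N ≤ M) (hne : M ≠ ⊤) : M = N := by
  have hsur := QuotientGroup.mk'_surjective N
  have hmap : (M.map (QuotientGroup.mk' N)).Normal := Subgroup.Normal.map hM _ hsur
  have hcm : (M.map (QuotientGroup.mk' N)).comap (QuotientGroup.mk' N) = M := by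
    rw [Subgroup.comap_map_eq, QuotientGroup.ker_mk', sup_eq_left.2 hNM]
  have := Sixty.normal_eq_bot (Sixty.noLinear_quotient hP N) h
    (M := M.map (QuotientGroup.mk' N)) fun e => hne (by rw [← hcm, e, Subgroup.comap_top])
  rw [← hcm, this, MonoidHom.comap_bot, QuotientGroup.ker_mk']

/-- The situation inside a quotient of order sixty. -/
theorem Hyp.small (H : Hyp u) (hG : Nat.card G = 60) (huu : u * u = 1) {θ : G → ℂ}
    (hθ : IsThree u θ) (hr : cj θ = θ) :
    ∃ θ', IsThree u θ' ∧ cj θ' = θ' ∧ θ ≠ θ' ∧ ∀ χ : G → ℂ, IsIrrCharacter G χ →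
      χ = (fun _ => (1 : ℂ)) ∨ χ = θ ∨ χ = θ' ∨ χ = five θ ∨ χ u = 0 := by
  classical
  obtain ⟨hX, hX5, -⟩ := hθ.five_spec H hr
  let E := (Finset.univ : Finset (IrrCharacter G)).erase (princ G)
  let t : IrrCharacter G := ⟨θ, hθ.1⟩
  let x : IrrCharacter G := ⟨five θ, hX.1⟩
  have hne1 : ∀ (c : IrrCharacter G), (c : G → ℂ) 1 ≠ 1 → c ∈ E := fun c hc => by
    refine Finset.mem_erase.2 ⟨fun e => hc ?_, Finset.mem_univ _⟩
    rw [e]; rfl
  have htE : t ∈ E := hne1 t (by show θ 1 ≠ 1; rw [hθ.2.1]; norm_num)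
  have hX1 : five θ 1 = 5 := by rw [deg_eq (IsIrr.isCharacter hX.1), hX5]; norm_num
  have hXu : five θ u = 1 := by rw [hX.2.1, hX5]; norm_num
  have hxE : x ∈ E := hne1 x (by show five θ 1 ≠ 1; rw [hX1]; norm_num)
  have hxt : x ≠ t := fun e => by
    have : five θ 1 = θ 1 := congrArg (fun c : IrrCharacter G => (c : G → ℂ) 1) e
    rw [hX1, hθ.2.1] at this
    norm_num at this
  have hshape : ∀ c ∈ E, ((c : G → ℂ) u = 0 ∧ 4 ≤ deg (c : G → ℂ)) ∨
      ((c : G → ℂ) u = (deg (c : G → ℂ) : ℂ) - 4 ∧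
        (deg (c : G → ℂ) = 3 ∨ 5 ≤ deg (c : G → ℂ))) := by
    intro c hc
    have hcn : (c : G → ℂ) ≠ fun _ => (1 : ℂ) := fun e => (Finset.mem_erase.1 hc).1 (Subtype.ext e)
    by_cases h0 : (c : G → ℂ) u = 0
    · obtain ⟨k, hk⟩ := four_dvd H.noLinear (IsIrr.isCharacter c.2) (u := u) (by rw [huu])
      rw [h0, zero_add, deg_eq (IsIrr.isCharacter c.2)] at hk
      have hk' : deg (c : G → ℂ) = 4 * k := by exact_mod_cast hk
      have := deg_pos c.2
      exact Or.inl ⟨h0, by omega⟩
    · exact Or.inr (H.nonvanishing c.2 hcn h0)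
  have hge : ∀ c ∈ E, 9 ≤ deg (c : G → ℂ) ^ 2 := by
    intro c hc
    have : 3 ≤ deg (c : G → ℂ) := by
      rcases hshape c hc with ⟨-, h⟩ | ⟨-, h⟩ <;> omega
    nlinarith
  have htot : ∑ c ∈ E, deg (c : G → ℂ) ^ 2 = 59 := by
    have h := sum_sq_degree (G := G)
    rw [hG] at h
    have h' : ((∑ c : IrrCharacter G, deg (c : G → ℂ) ^ 2 : ℕ) : ℂ) = ((60 : ℕ) : ℂ) := by
      rw [← h]; push_cast
      exact Finset.sum_congr rfl fun c _ => by rw [deg_eq (IsIrr.isCharacter c.2)]
    have h'' := Nat.cast_injective h'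
    rw [← Finset.add_sum_erase _ _ (Finset.mem_univ (princ G))] at h''
    have : deg ((princ G : IrrCharacter G) : G → ℂ) = 1 := by simp [deg, princ]
    rw [this] at h''
    change 1 ^ 2 + ∑ c ∈ E, deg (c : G → ℂ) ^ 2 = 60 at h''
    omega
  -- a second character of degree three
  obtain ⟨p, hpE, hpt, hp⟩ : ∃ p ∈ E, p ≠ t ∧ IsThree u (p : G → ℂ) := by
    by_contra hno
    push Not at hno
    have hnn : ∀ c ∈ E.erase t, 0 ≤ ((c : G → ℂ) 1 * (c : G → ℂ) u).re := by
      intro c hc
      obtain ⟨hct, hcE⟩ := Finset.mem_erase.1 hc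
      rcases hshape c hcE with ⟨h0, -⟩ | ⟨e, hd⟩
      · simp [h0]
      · have hdd := deg_eq (IsIrr.isCharacter c.2)
        rcases hd with hd | hd
        · exact absurd ⟨c.2, by rw [hdd, hd]; norm_num, by rw [e, hd]; norm_num⟩ (hno c hcE hct)
        · rw [e, hdd]
          have : (5 : ℝ) ≤ (deg (c : G → ℂ) : ℝ) := by exact_mod_cast hd
          simp
          nlinarith
    have hxval : ((x : G → ℂ) 1 * (x : G → ℂ) u).re = 5 := by
      show (five θ 1 * five θ u).re = 5
      rw [hX1, hXu]; norm_num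
    have h := congrArg Complex.re H.column
    rw [Complex.re_sum] at h
    change ∑ c ∈ E, ((c : G → ℂ) 1 * (c : G → ℂ) u).re = (-1 : ℂ).re at h
    rw [← Finset.add_sum_erase E _ htE] at h
    have h5 := Finset.single_le_sum hnn (Finset.mem_erase.2 ⟨hxt, hxE⟩)
    rw [hxval] at h5
    have htv : ((t : G → ℂ) 1 * (t : G → ℂ) u).re = -3 := by
      show (θ 1 * θ u).re = -3
      rw [hθ.2.1, hθ.2.2]; norm_num
    rw [htv, Complex.neg_re, Complex.one_re] at h
    linarith
  have hxp : x ≠ p := fun e => by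
    have : five θ 1 = (p : G → ℂ) 1 := congrArg (fun c : IrrCharacter G => (c : G → ℂ) 1) e
    rw [hX1, hp.2.1] at this
    norm_num at this
  have dt : deg (t : G → ℂ) = 3 := by
    have : ((deg θ : ℕ) : ℂ) = ((3 : ℕ) : ℂ) := by
      rw [← deg_eq (IsIrr.isCharacter hθ.1), hθ.2.1]; norm_num
    exact Nat.cast_injective this
  have dp : deg (p : G → ℂ) = 3 := by
    have : ((deg (p : G → ℂ) : ℕ) : ℂ) = ((3 : ℕ) : ℂ) := by
      rw [← deg_eq (IsIrr.isCharacter p.2), hp.2.1]; norm_num
    exact Nat.cast_injective this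
  have dx : deg (x : G → ℂ) = 5 := hX5
  have hrest : ∑ c ∈ ((E.erase t).erase p).erase x, deg (c : G → ℂ) ^ 2 = 16 := by
    have h := htot
    rw [← Finset.add_sum_erase E _ htE,
      ← Finset.add_sum_erase (E.erase t) _ (Finset.mem_erase.2 ⟨hpt, hpE⟩),
      ← Finset.add_sum_erase ((E.erase t).erase p) _
        (Finset.mem_erase.2 ⟨hxp, Finset.mem_erase.2 ⟨hxt, hxE⟩⟩), dt, dp, dx] at h
    omega
  -- no further nonvanishing character
  have hlast : ∀ c ∈ ((E.erase t).erase p).erase x, (c : G → ℂ) u = 0 := by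
    intro c hc
    have hcE : c ∈ E := Finset.mem_of_mem_erase (Finset.mem_of_mem_erase (Finset.mem_of_mem_erase hc))
    rcases hshape c hcE with ⟨h0, -⟩ | ⟨-, hd⟩
    · exact h0
    exfalso
    have h := hrest
    rw [← Finset.add_sum_erase _ _ hc] at h
    rcases hd with hd | hd
    · rw [hd] at h
      rcases (((E.erase t).erase p).erase x).erase c |>.eq_empty_or_nonempty with e | ⟨d, hd'⟩
      · rw [e, Finset.sum_empty] at h; omega
      · have h9 := hge d (Finset.mem_of_mem_erase (Finset.mem_of_mem_erase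
          (Finset.mem_of_mem_erase (Finset.mem_of_mem_erase hd'))))
        have := Finset.single_le_sum (f := fun d : IrrCharacter G => deg (d : G → ℂ) ^ 2)
          (fun _ _ => Nat.zero_le _) hd'
        omega
    · have h25 : 25 ≤ deg (c : G → ℂ) ^ 2 := by nlinarith
      omega
  refine ⟨(p : G → ℂ), hp, ?_, fun e => hpt (Subtype.ext e.symm), fun χ hχ => ?_⟩
  · by_contra hne
    let q : IrrCharacter G := ⟨cj (p : G → ℂ), isIrr_cj p.2⟩
    have hqu : (q : G → ℂ) u = -1 := by show conj ((p : G → ℂ) u) = -1; rw [hp.2.2]; simp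
    have hq1 : (q : G → ℂ) 1 = 3 := by show conj ((p : G → ℂ) 1) = 3; rw [hp.2.1, Complex.conj_ofNat]
    have hqE : q ∈ E := hne1 q (by rw [hq1]; norm_num)
    have hqp : q ≠ p := fun e => hne (congrArg Subtype.val e)
    have hqt : q ≠ t := fun e => hpt (Subtype.ext (by
      have : cj (p : G → ℂ) = θ := congrArg Subtype.val e
      show (p : G → ℂ) = θ
      rw [← cj_cj (p : G → ℂ), this, hr]))
    have hqx : q ≠ x := fun e => by
      have : (q : G → ℂ) 1 = five θ 1 := congrArg (fun c : IrrCharacter G => (c : G → ℂ) 1) e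
      rw [hq1, hX1] at this
      norm_num at this
    have := hlast q (Finset.mem_erase.2 ⟨hqx, Finset.mem_erase.2 ⟨hqp, Finset.mem_erase.2
      ⟨hqt, hqE⟩⟩⟩)
    rw [hqu] at this
    norm_num at this
  · by_contra hcon
    simp only [not_or] at hcon
    obtain ⟨n1, n2, n3, n4, n5⟩ := hcon
    exact n5 (hlast ⟨χ, hχ⟩ (Finset.mem_erase.2 ⟨fun e => n4 (congrArg Subtype.val e),
      Finset.mem_erase.2 ⟨fun e => n3 (congrArg Subtype.val e),
        Finset.mem_erase.2 ⟨fun e => n2 (congrArg Subtype.val e),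
          Finset.mem_erase.2 ⟨fun e => n1 (congrArg Subtype.val e), Finset.mem_univ _⟩⟩⟩⟩))

/-- Facts about one real character and its kernel. -/
theorem Hyp.kernel_facts (H : Hyp u) {θ : G → ℂ} (hθ : IsThree u θ) (hr : cj θ = θ) :
    ∃ N : Subgroup G, N.Normal ∧ N.index = 60 ∧ (∀ g, g ∈ N ↔ θ g = θ 1) ∧
      (∀ M : Subgroup G, M.Normal → N ≤ M → M ≠ ⊤ → M = N) ∧
      ∀ g, five θ g = five θ 1 ↔ g ∈ N := by
  set N := kerSubgroup (IsIrr.isCharacter hθ.1) with hN
  have hker : ∀ g, g ∈ N ↔ θ g = θ 1 := fun g => Iff.rfl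
  obtain ⟨ρ, hρ, he, hf⟩ := exists_kernel_rep hθ.1 hθ.2.1 N hker
  have hP := Sixty.noLinear_quotient H.noLinear N
  have h60 : N.index = 60 := Sixty.card_eq_sixty hP hρ hf fun q => by
    obtain ⟨g, rfl⟩ := QuotientGroup.mk_surjective q
    rw [he]; exact congrFun hr g
  have hmax := maximal_of_card H.noLinear N h60
  refine ⟨N, inferInstance, h60, hker, hmax, fun g => ?_⟩
  obtain ⟨hX, hX5, -⟩ := hθ.five_spec H hr
  have hXc := IsIrr.isCharacter hX.1
  have hle : N ≤ kerSubgroup hXc := fun n hn => by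
    rw [mem_kerSubgroup]
    simp [five, red, (hker n).1 hn]
  have hne : kerSubgroup hXc ≠ ⊤ := fun e => by
    have : u ∈ kerSubgroup hXc := e ▸ Subgroup.mem_top u
    rw [mem_kerSubgroup, hX.2.1, deg_eq hXc] at this
    norm_num at this
  rw [← hmax _ inferInstance hle hne]
  rfl

/-- All the character theory needed. -/
theorem Hyp.exists_kern (H : Hyp u) : ∃ N θ θ' X, Kern u N θ θ' X := by
  classical
  have := Fintype.ofFinite G
  obtain ⟨θ, hθ, hr⟩ := H.exists_real
  obtain ⟨N, hNn, h60, hker, hmax, hker5⟩ := H.kernel_facts hθ hr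
  have hNtop : N ≠ ⊤ := fun e => by rw [e, Subgroup.index_top] at h60; omega
  obtain ⟨φ, hφ, he⟩ := IsIrr.exists_quotient N hθ.1 fun n hn => (hker n).1 hn
  have hmk1 : (QuotientGroup.mk (1 : G) : G ⧸ N) = 1 := rfl
  have hφ3 : IsThree (QuotientGroup.mk u : G ⧸ N) φ :=
    ⟨hφ, by rw [← hmk1, ← he]; exact hθ.2.1, by rw [← he]; exact hθ.2.2⟩
  have hφr : cj φ = φ := funext fun q => by
    obtain ⟨g, rfl⟩ := QuotientGroup.mk_surjective q
    simp only [cj_apply, ← he]
    exact congrFun hr g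
  obtain ⟨φ', hφ', hφ'r, hφne, hcl⟩ := (H.quotient hNtop).small h60
    (by rw [← QuotientGroup.mk_mul, QuotientGroup.eq_one_iff, hker]; exact hθ.sq_mem H) hφ3 hφr
  let θ' : G → ℂ := fun g => φ' (QuotientGroup.mk g)
  have hθ' : IsThree u θ' := ⟨isIrrCharacter_mk N hφ'.1, by simpa [θ', hmk1] using hφ'.2.1, hφ'.2.2⟩
  have hθ'r : cj θ' = θ' := funext fun g => congrFun hφ'r _
  have hne : θ ≠ θ' := fun e => hφne (funext fun q => by
    obtain ⟨g, rfl⟩ := QuotientGroup.mk_surjective q
    rw [← he]; exact congrFun e g)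
  -- every real character of degree three has kernel N
  have hsame : ∀ ψ, IsThree u ψ → cj ψ = ψ → ∀ g, g ∈ N ↔ ψ g = ψ 1 := by
    intro ψ hψ hψr g
    obtain ⟨N', hN'n, h60', hker', hmax', hker5'⟩ := H.kernel_facts hψ hψr
    rw [← hker', ← hker5', hψ.five_eq H hθ hψr hr, hker5]
  have hker' : ∀ g, g ∈ N ↔ θ' g = θ' 1 := hsame θ' hθ' hθ'r
  have hclass : ∀ χ : G → ℂ, IsIrrCharacter G χ → (∀ n ∈ N, χ n = χ 1) →
      χ = (fun _ => (1 : ℂ)) ∨ χ = θ ∨ χ = θ' ∨ χ = five θ ∨ χ u = 0 := by
    intro χ hχ hN'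
    obtain ⟨c, hc, hce⟩ := IsIrr.exists_quotient N hχ hN'
    rcases hcl c hc with h | h | h | h | h
    · exact Or.inl (funext fun g => by rw [hce, h])
    · exact Or.inr (Or.inl (funext fun g => by rw [hce, h, he]))
    · exact Or.inr (Or.inr (Or.inl (funext fun g => by rw [hce, h])))
    · refine Or.inr (Or.inr (Or.inr (Or.inl (funext fun g => ?_))))
      rw [hce, h]
      simp [five, red, he]
    · exact Or.inr (Or.inr (Or.inr (Or.inr ((hce u).trans h))))
  -- every character of degree three is real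
  have hreal : ∀ ψ, IsThree u ψ → cj ψ = ψ := by
    intro ψ hψ
    by_contra hnr
    obtain ⟨hΦc, hΦk, hΦ1, hΦu, hΦ0⟩ := hψ.red_props H
    have hneq : ∀ α, cj α = α → ψ ≠ α := fun α hα e => hnr (e ▸ hα)
    have hzero : ∀ α, IsThree u α → cj α = α → classInner (red ψ) (red α) ≠ 0 := by
      intro α hα hαr h0
      rcases hψ.red_inner H hα hαr (hneq α hαr) with e | e <;> rw [h0] at e <;> norm_num at e
    rcases H.eight hΦc hΦk hΦ1 hΦu hΦ0 with ⟨a, b, ha, hb, hb5, e⟩ | ⟨hcase, -⟩
    · have har := cj_of_red ha hb hb5 e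
      have haN := hsame a ha har
      have ha' : a = θ ∨ a = θ' := by
        rcases hclass a ha.1 (fun n hn => (haN n).1 hn) with h | h | h | h | h
        · exfalso
          have := ha.2.1
          rw [h] at this
          norm_num at this
        · exact Or.inl h
        · exact Or.inr h
        · exfalso
          obtain ⟨hX, hX5, -⟩ := hθ.five_spec H hr
          have := ha.2.1
          rw [h, deg_eq (IsIrr.isCharacter hX.1), hX5] at this
          norm_num at this
        · exfalso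
          rw [ha.2.2] at h
          norm_num at h
      obtain ⟨c, hc, hcr, hca⟩ : ∃ c, IsThree u c ∧ cj c = c ∧ a ≠ c := by
        rcases ha' with rfl | rfl
        · exact ⟨θ', hθ', hθ'r, hne⟩
        · exact ⟨θ, hθ, hr, hne.symm⟩
      obtain ⟨hXa, hXa5, ea⟩ := ha.five_spec H har
      obtain ⟨hXc, hXc5, ec⟩ := hc.five_spec H hcr
      have hx : ∀ {p q : G → ℂ}, IsThree u p → IsN u q → deg q = 5 → p ≠ q := fun hp hq hq5 he => by
        have := congrFun he 1
        rw [hp.2.1, deg_eq (IsIrr.isCharacter hq.1), hq5] at this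
        norm_num at this
      have h1 := hψ.red_inner H ha har (hneq a har)
      rw [e, ea, classInner_add_left, classInner_add_right, classInner_add_right,
        classInner_irr_self ha.1, classInner_irr_ne ha.1 hXa.1 (hx ha hXa hXa5),
        classInner_irr_ne hb.1 ha.1 (hx ha hb hb5).symm] at h1
      have hbX : b ≠ five a := fun hb' => by
        rw [hb', classInner_irr_self hXa.1] at h1
        norm_num at h1
      refine hzero c hc hcr ?_
      rw [e, ec, ← ha.five_eq H hc har hcr, classInner_add_left, classInner_add_right,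
        classInner_add_right, classInner_irr_ne ha.1 hc.1 hca,
        classInner_irr_ne ha.1 hXa.1 (hx ha hXa hXa5),
        classInner_irr_ne hb.1 hc.1 (hx hc hb hb5).symm, classInner_irr_ne hb.1 hXa.1 hbX]
      norm_num
    · obtain ⟨hX, hX5, eθ⟩ := hθ.five_spec H hr
      refine hzero θ hθ hr ?_
      rw [eθ, classInner_add_right, hcase θ hθ.1 (by rw [hθ.2.2]; norm_num),
        hcase _ hX.1 (by rw [hX.2.1, hX5]; norm_num), add_zero]
  obtain ⟨hX, hX5, -⟩ := hθ.five_spec H hr
  have hthree : ∀ ψ, IsThree u ψ → ψ = θ ∨ ψ = θ' := by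
    intro ψ hψ
    rcases hclass ψ hψ.1 (fun n hn => (hsame ψ hψ (hreal ψ hψ) n).1 hn) with h | h | h | h | h
    · exfalso
      have := hψ.2.1
      rw [h] at this
      norm_num at this
    · exact Or.inl h
    · exact Or.inr h
    · exfalso
      have := hψ.2.1
      rw [h, deg_eq (IsIrr.isCharacter hX.1), hX5] at this
      norm_num at this
    · exfalso
      rw [hψ.2.2] at h
      norm_num at h
  refine ⟨N, θ, θ', five θ, H, hNn, h60, hmax, hθ, hr, hθ', hθ'r, hne, rfl, hker, hker', ?_⟩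
  intro χ hχ
  by_contra hcon
  simp only [not_or] at hcon
  obtain ⟨n1, n2, n3, n4, n5⟩ := hcon
  let E := (Finset.univ : Finset (IrrCharacter G)).erase (princ G)
  let val : IrrCharacter G → ℂ := fun c => (c : G → ℂ) 1 * (c : G → ℂ) u
  let t : IrrCharacter G := ⟨θ, hθ.1⟩
  let p : IrrCharacter G := ⟨θ', hθ'.1⟩
  let x : IrrCharacter G := ⟨five θ, hX.1⟩
  have hmemE : ∀ c : IrrCharacter G, (c : G → ℂ) 1 ≠ 1 → c ∈ E := fun c hc => by
    refine Finset.mem_erase.2 ⟨fun e => hc ?_, Finset.mem_univ _⟩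
    rw [e]; rfl
  have htE : t ∈ E := hmemE t (by show θ 1 ≠ 1; rw [hθ.2.1]; norm_num)
  have hpE : p ∈ E := hmemE p (by show θ' 1 ≠ 1; rw [hθ'.2.1]; norm_num)
  have hX1 : five θ 1 = 5 := by rw [deg_eq (IsIrr.isCharacter hX.1), hX5]; norm_num
  have hxE : x ∈ E := hmemE x (by show five θ 1 ≠ 1; rw [hX1]; norm_num)
  have hpt : p ≠ t := fun e => hne (congrArg Subtype.val e).symm
  have hxp : x ≠ p := fun e => by
    have : five θ 1 = θ' 1 := congrArg (fun c : IrrCharacter G => (c : G → ℂ) 1) e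
    rw [hX1, hθ'.2.1] at this
    norm_num at this
  have hxt : x ≠ t := fun e => by
    have : five θ 1 = θ 1 := congrArg (fun c : IrrCharacter G => (c : G → ℂ) 1) e
    rw [hX1, hθ.2.1] at this
    norm_num at this
  have hzero : ∑ c ∈ ((E.erase t).erase p).erase x, (val c).re = 0 := by
    have h : ∑ c ∈ E, val c = -1 := by
      convert H.column using 2
      ext y; simp [E]
    rw [← Finset.add_sum_erase E _ htE,
      ← Finset.add_sum_erase (E.erase t) _ (Finset.mem_erase.2 ⟨hpt, hpE⟩),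
      ← Finset.add_sum_erase ((E.erase t).erase p) _
        (Finset.mem_erase.2 ⟨hxp, Finset.mem_erase.2 ⟨hxt, hxE⟩⟩),
      show val t = -3 by show θ 1 * θ u = -3; rw [hθ.2.1, hθ.2.2]; norm_num,
      show val p = -3 by show θ' 1 * θ' u = -3; rw [hθ'.2.1, hθ'.2.2]; norm_num,
      show val x = 5 by show five θ 1 * five θ u = 5; rw [hX1, hX.2.1, hX5]; norm_num] at h
    have h' : ∑ c ∈ ((E.erase t).erase p).erase x, val c = 0 := by linear_combination h
    rw [← Complex.re_sum, h', Complex.zero_re]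
  have hshape : ∀ c ∈ ((E.erase t).erase p).erase x, (c : G → ℂ) u ≠ 0 → 0 < (val c).re := by
    intro c hc h0
    simp only [Finset.mem_erase] at hc
    obtain ⟨hcx, hcp, hct, hcE⟩ := hc
    obtain ⟨e, hd⟩ := H.nonvanishing c.2
      (fun e => (Finset.mem_erase.1 hcE).1 (Subtype.ext e)) h0
    have hdd := deg_eq (IsIrr.isCharacter c.2)
    rcases hd with hd | hd
    · rcases hthree c ⟨c.2, by rw [hdd, hd]; norm_num, by rw [e, hd]; norm_num⟩ with h | h
      · exact absurd (Subtype.ext h) hct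
      · exact absurd (Subtype.ext h) hcp
    · show 0 < ((c : G → ℂ) 1 * (c : G → ℂ) u).re
      rw [e, hdd]
      have : (5 : ℝ) ≤ (deg (c : G → ℂ) : ℝ) := by exact_mod_cast hd
      simp
      nlinarith
  have hnn : ∀ c ∈ ((E.erase t).erase p).erase x, 0 ≤ (val c).re := fun c hc => by
    by_cases h0 : (c : G → ℂ) u = 0
    · simp [val, h0]
    · exact (hshape c hc h0).le
  have hmem : (⟨χ, hχ⟩ : IrrCharacter G) ∈ ((E.erase t).erase p).erase x :=
    Finset.mem_erase.2 ⟨fun e => n4 (congrArg Subtype.val e),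
      Finset.mem_erase.2 ⟨fun e => n3 (congrArg Subtype.val e),
        Finset.mem_erase.2 ⟨fun e => n2 (congrArg Subtype.val e),
          Finset.mem_erase.2 ⟨fun e => n1 (congrArg Subtype.val e), Finset.mem_univ _⟩⟩⟩⟩
  exact (hshape _ hmem n5).ne' ((Finset.sum_eq_zero_iff_of_nonneg hnn).1 hzero _ hmem)

/-- The column sum at `g`. -/
noncomputable def colSum (θ θ' X : G → ℂ) (g : G) : ℂ := 1 - θ g - θ' g + X g

open scoped _root_.Classical in
theorem Kern.column {N : Subgroup G} {θ θ' X : G → ℂ} (K : Kern u N θ θ' X) (g : G) :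
    colSum θ θ' X g =
      if IsConj g u then (Nat.card (Subgroup.centralizer ({g} : Set G)) : ℂ) else 0 := by
  rw [← second_orthogonality g u]
  obtain ⟨hX, hX5, -⟩ := K.th.five_spec K.hyp K.th_real
  rw [← K.five_eq] at hX hX5
  have hX1 : X 1 = 5 := by rw [deg_eq (IsIrr.isCharacter hX.1), hX5]; norm_num
  have hXu : X u = 1 := by rw [hX.2.1, hX5]; norm_num
  let t : IrrCharacter G := ⟨θ, K.th.1⟩
  let p : IrrCharacter G := ⟨θ', K.th'.1⟩
  let x : IrrCharacter G := ⟨X, hX.1⟩
  have h1 : ∀ (a b : IrrCharacter G), (a : G → ℂ) 1 ≠ (b : G → ℂ) 1 → a ≠ b :=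
    fun a b h e => h (by rw [e])
  have e0 : ((princ G : IrrCharacter G) : G → ℂ) 1 = 1 := rfl
  have et : (t : G → ℂ) 1 = 3 := K.th.2.1
  have ep : (p : G → ℂ) 1 = 3 := K.th'.2.1
  have ex : (x : G → ℂ) 1 = 5 := hX1
  have d1 : princ G ≠ t := h1 _ _ (by rw [e0, et]; norm_num)
  have d2 : princ G ≠ p := h1 _ _ (by rw [e0, ep]; norm_num)
  have d3 : princ G ≠ x := h1 _ _ (by rw [e0, ex]; norm_num)
  have d4 : t ≠ p := fun e => K.ne (congrArg Subtype.val e)
  have d5 : t ≠ x := h1 _ _ (by rw [et, ex]; norm_num)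
  have d6 : p ≠ x := h1 _ _ (by rw [ep, ex]; norm_num)
  rw [← Finset.sum_subset (Finset.subset_univ ({princ G, t, p, x} : Finset (IrrCharacter G)))
    fun c _ hc => ?_]
  · rw [Finset.sum_insert (by simp [d1, d2, d3]), Finset.sum_insert (by simp [d4, d5]),
      Finset.sum_pair d6]
    show colSum θ θ' X g = (fun _ => (1 : ℂ)) g * conj ((fun _ => (1 : ℂ)) u) +
      (θ g * conj (θ u) + (θ' g * conj (θ' u) + X g * conj (X u)))
    rw [K.th.2.2, K.th'.2.2, hXu, colSum]
    simp
    ring
  · simp only [Finset.mem_insert, Finset.mem_singleton, not_or] at hc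
    rcases K.others c c.2 with h | h | h | h | h
    · exact absurd (Subtype.ext h) hc.1
    · exact absurd (Subtype.ext h) hc.2.1
    · exact absurd (Subtype.ext h) hc.2.2.1
    · exact absurd (Subtype.ext h) hc.2.2.2
    · rw [h, map_zero, mul_zero]

/-- Elements mapping onto involutions of the quotient are conjugate to `u`. -/
theorem Kern.involution {N : Subgroup G} {θ θ' X : G → ℂ} (K : Kern u N θ θ' X) {g : G}
    (hg : g ∉ N) (hg2 : g * g ∈ N) :
    IsConj g u ∧ Nat.card (Subgroup.centralizer ({g} : Set G)) = 4 := by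
  classical
  have key : ∀ {α : G → ℂ}, IsThree u α → (∀ x, x ∈ N ↔ α x = α 1) → α g = -1 := by
    intro α hα hk
    have hc := IsIrr.isCharacter hα.1
    obtain ⟨k, hk'⟩ := four_dvd K.hyp.noLinear hc ((hk _).1 hg2)
    rw [hα.2.1] at hk'
    rcases k with _ | _ | k
    · exact absurd ((hk g).2 (by rw [hα.2.1, hk']; simp)) hg
    · linear_combination -hk'
    · exfalso
      have h := IsChar.norm_le hc g
      have h2 : α g = ((-5 - 4 * (k : ℝ) : ℝ) : ℂ) := by
        push_cast at hk' ⊢; linear_combination -hk'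
      rw [h2, hα.2.1, Complex.norm_real, Real.norm_eq_abs, abs_of_nonpos (by linarith [(k.cast_nonneg : (0 : ℝ) ≤ k)])] at h
      norm_num at h
      linarith [(k.cast_nonneg : (0 : ℝ) ≤ k)]
  have hs : colSum θ θ' X g = 4 := by
    have e2 := congrFun K.th_real g
    simp only [cj_apply] at e2
    simp only [colSum, K.five_eq, five, red, Pi.sub_apply, Pi.mul_apply, cj_apply, e2,
      key K.th K.ker, key K.th' K.ker']
    norm_num
  have h := K.column g
  rw [hs] at h
  by_cases hc : IsConj g u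
  · rw [if_pos hc] at h
    exact ⟨hc, (Nat.cast_injective (show ((4 : ℕ) : ℂ) = _ by exact_mod_cast h)).symm⟩
  · rw [if_neg hc] at h
    norm_num at h

/-- The quotient has no element of order four. -/
theorem Kern.no_four {N : Subgroup G} {θ θ' X : G → ℂ} (K : Kern u N θ θ' X) {g : G}
    (h4 : g * g * (g * g) ∈ N) : g * g ∈ N := by
  classical
  by_contra hg2
  have key : ∀ {α : G → ℂ}, IsThree u α → cj α = α → (∀ x, x ∈ N ↔ α x = α 1) → α g = 1 := by
    intro α hα hαr hk
    have hc := IsIrr.isCharacter hα.1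
    have e := alt_three K.hyp.noLinear hc hα.2.1 g
    have e' := congrFun hαr g
    simp only [cj_apply] at e'
    obtain ⟨k, hk'⟩ := four_dvd K.hyp.noLinear hc ((hk _).1 h4)
    rw [hα.2.1] at hk'
    have hgg : α (g * g) = -1 := by
      rcases k with _ | _ | k
      · exact absurd ((hk (g * g)).2 (by rw [hα.2.1, hk']; simp)) hg2
      · linear_combination -hk'
      · exfalso
        have h := IsChar.norm_le hc (g * g)
        have h2 : α (g * g) = ((-5 - 4 * (k : ℝ) : ℝ) : ℂ) := by
          push_cast at hk' ⊢; linear_combination -hk'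
        rw [h2, hα.2.1, Complex.norm_real, Real.norm_eq_abs, abs_of_nonpos (by linarith [(k.cast_nonneg : (0 : ℝ) ≤ k)])] at h
        norm_num at h
        linarith [(k.cast_nonneg : (0 : ℝ) ≤ k)]
    rw [alt, hgg, e'] at e
    have h0 : (α g - 1) ^ 2 = 0 := by linear_combination 2 * e
    exact sub_eq_zero.1 (pow_eq_zero_iff two_ne_zero |>.1 h0)
  have hs : colSum θ θ' X g = -2 := by
    have e2 := congrFun K.th_real g
    simp only [cj_apply] at e2
    simp only [colSum, K.five_eq, five, red, Pi.sub_apply, Pi.mul_apply, cj_apply, e2,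
      key K.th K.th_real K.ker, key K.th' K.th'_real K.ker']
    norm_num
  have h := K.column g
  rw [hs] at h
  split_ifs at h with hc
  · have : ((Nat.card (Subgroup.centralizer ({g} : Set G)) + 2 : ℕ) : ℂ) = ((0 : ℕ) : ℂ) := by
      push_cast; linear_combination -h
    have := Nat.cast_injective this
    omega
  · norm_num at h

end Cfsg.Agent.ConstFour
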