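import Cfsg.Agent.ConstFour.Kernel
import Cfsg.Agent.ConstFour.Recog
import Cfsg.Agent.Core.PCore
import Cfsg.Prelude.Def_CaseTheorems
import Mathlib.GroupTheory.Transfer
import Mathlib.GroupTheory.FixedPointFree

/-!
# The structure of the group
-/

namespace Cfsg.Agent.ConstFour

open Subgroup

universe v
variable {G : Type v} [Group G] [Finite G] {u : G}

theorem mem_centralizer_self_iff {g x : G} : x ∈ centralizer ({g} : Set G) ↔ Commute x g := by
  rw [mem_centralizer_singleton_iff]; exact Iff.rfl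

theorem zpowers_cases {x y : G} (h : orderOf x = 4) (hy : y ∈ zpowers x) :
    y = 1 ∨ y = x ∨ y = x * x ∨ y = x * x * x := by
  obtain ⟨n, hn, rfl⟩ : ∃ n, n < 4 ∧ x ^ n = y := by
    rw [← mem_powers_iff_mem_zpowers, Submonoid.mem_powers_iff] at hy
    obtain ⟨n, rfl⟩ := hy
    exact ⟨n % 4, Nat.mod_lt _ (by norm_num), by rw [← h, pow_mod_orderOf]⟩
  interval_cases n <;> simp [pow_succ, mul_assoc]

theorem eq_one_of_sq_odd {x : G} (h : x * x = 1) (ho : Odd (orderOf x)) : x = 1 := by
  rw [← orderOf_eq_one_iff]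
  have hd : orderOf x ∣ 2 := orderOf_dvd_of_pow_eq_one (by rw [pow_two, h])
  rcases (Nat.dvd_prime Nat.prime_two).1 hd with e | e
  · exact e
  · rw [e] at ho; exact absurd ho (by decide)

/-- An automorphism of square one without fixed points inverts. -/
theorem conj_inverts {H : Subgroup G} {x : G} (hx : ∀ d ∈ H, x * d * x⁻¹ ∈ H)
    (h2 : ∀ d ∈ H, Commute (x * x) d) (hfix : ∀ d ∈ H, Commute x d → d = 1) :
    ∀ d ∈ H, x * d * x⁻¹ = d⁻¹ := by
  let φ : H →* H :=
    { toFun := fun d => ⟨x * d.1 * x⁻¹, hx _ d.2⟩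
      map_one' := Subtype.ext (by simp)
      map_mul' := fun a b => Subtype.ext (by simp [mul_assoc]) }
  have hφ : MonoidHom.FixedPointFree φ := fun d hd => by
    refine Subtype.ext (hfix _ d.2 ?_)
    have : x * d.1 * x⁻¹ = d.1 := congrArg Subtype.val hd
    exact mul_inv_eq_iff_eq_mul.1 this
  have hinv : Function.Involutive φ := fun d => Subtype.ext (by
    show x * (x * d.1 * x⁻¹) * x⁻¹ = d.1
    calc x * (x * d.1 * x⁻¹) * x⁻¹ = x * x * d.1 * (x * x)⁻¹ := by group
      _ = d.1 := by rw [(h2 _ d.2).eq]; group)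
  intro d hd
  have := congrFun (hφ.coe_eq_inv_of_involutive hinv) ⟨d, hd⟩
  exact congrArg Subtype.val this

variable {N : Subgroup G} {θ θ' X : G → ℂ}

theorem Kern.mem_mul_iff (K : Kern u N θ θ' X) {a b : G} (hb : b ∈ N) : a * b ∈ N ↔ a ∈ N :=
  N.mul_mem_cancel_right hb

/-- In a `2`-subgroup all squares lie in the kernel. -/
theorem Kern.sq_mem (K : Kern u N θ θ' X) {S : Subgroup G} (hS : IsPGroup 2 S) {x : G}
    (hx : x ∈ S) : x * x ∈ N := by
  have := K.normal
  obtain ⟨k, hk⟩ := hS ⟨x, hx⟩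
  have hk' : x ^ 2 ^ k = 1 := congrArg Subtype.val hk
  have h1 : orderOf (QuotientGroup.mk x : G ⧸ N) ∣ 2 ^ k := orderOf_dvd_of_pow_eq_one (by
    rw [← QuotientGroup.mk_pow, hk', QuotientGroup.mk_one])
  have h2 : orderOf (QuotientGroup.mk x : G ⧸ N) ∣ 60 := by
    have := _root_.orderOf_dvd_natCard (QuotientGroup.mk x : G ⧸ N)
    rwa [← N.index_eq_card, K.card_quot] at this
  obtain ⟨i, -, hi⟩ := (Nat.dvd_prime_pow Nat.prime_two).1 h1
  have h4 : orderOf (QuotientGroup.mk x : G ⧸ N) ∣ 4 := by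
    rw [hi] at h2 ⊢
    rcases i with _ | _ | _ | i
    · norm_num
    · norm_num
    · norm_num
    · exfalso
      have : 8 ∣ 60 := dvd_trans ⟨2 ^ i, by ring⟩ h2
      norm_num at this
  have := orderOf_dvd_iff_pow_eq_one.1 h4
  rw [← QuotientGroup.mk_pow, QuotientGroup.eq_one_iff] at this
  refine K.no_four ?_
  simpa [pow_succ, mul_assoc] using this

theorem Kern.u_notMem (K : Kern u N θ θ' X) : u ∉ N := by
  have := K.normal
  refine K.hyp.not_mem fun e => ?_
  have := K.card_quot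
  rw [e, index_top] at this
  omega

theorem Kern.u_sq (K : Kern u N θ θ' X) : u * u ∈ N := (K.ker _).2 (K.th.sq_mem K.hyp)

theorem Kern.orderOf_u (K : Kern u N θ θ' X) : orderOf u = 2 ∨ orderOf u = 4 := by
  have h := (K.involution K.u_notMem K.u_sq).2
  have hd : orderOf u ∣ 4 := h ▸ Subgroup.orderOf_dvd_natCard (centralizer ({u} : Set G))
    (mem_centralizer_self_iff.2 (Commute.refl u))
  have h1 : orderOf u ≠ 1 := fun e => K.hyp.ne (orderOf_eq_one_iff.1 e)
  obtain ⟨i, hi, e⟩ := (Nat.dvd_prime_pow Nat.prime_two).1 (show orderOf u ∣ 2 ^ 2 from hd)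
  interval_cases i <;> simp_all

/-- A second involution of the quotient commuting with that of `u`. -/
theorem Kern.exists_pair (K : Kern u N θ θ' X) :
    ∃ (S : Sylow 2 G) (v : G), u ∈ S ∧ v ∈ S ∧ v ∉ N ∧ u * v ∉ N ∧ v * v ∈ N ∧
      u * v * (u * v) ∈ N := by
  have := K.normal
  have : Fact (Nat.Prime 2) := ⟨Nat.prime_two⟩
  obtain ⟨i, -, hi⟩ : ∃ i, i ≤ 2 ∧ orderOf u = 2 ^ i := by
    rcases K.orderOf_u with e | e
    · exact ⟨1, by norm_num, e⟩
    · exact ⟨2, le_rfl, e⟩
  obtain ⟨S, hS⟩ := (IsPGroup.of_card (G := zpowers u) (n := i)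
    (by rw [Nat.card_zpowers, hi])).exists_le_sylow
  have hu : u ∈ S := hS (mem_zpowers u)
  by_contra hno
  push Not at hno
  have hall : ∀ x ∈ (S : Subgroup G), x ∈ N ∨ u * x ∈ N := fun x hx => by
    by_contra h
    simp only [not_or] at h
    exact hno S x hu hx h.1 h.2 (K.sq_mem S.isPGroup' hx)
      (K.sq_mem S.isPGroup' (mul_mem hu hx))
  let M := (S : Subgroup G).map (QuotientGroup.mk' N)
  have hM : Nat.card M ≤ 2 := by
    refine (Nat.card_le_card_of_surjective (fun b : Bool => (⟨if b then QuotientGroup.mk' N u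
      else 1, by split; exacts [mem_map_of_mem _ hu, one_mem _]⟩ : M)) ?_).trans (by simp)
    rintro ⟨_, x, hx, rfl⟩
    rcases hall x hx with h | h
    · exact ⟨false, Subtype.ext ((QuotientGroup.eq_one_iff x).2 h).symm⟩
    · refine ⟨true, Subtype.ext ?_⟩
      show (QuotientGroup.mk u : G ⧸ N) = QuotientGroup.mk x
      refine QuotientGroup.eq.2 ?_
      have e : u⁻¹ * x = (u * u)⁻¹ * (u * x) := by group
      rw [e]
      exact mul_mem (inv_mem K.u_sq) h
  have hdvd : M.index ∣ (S : Subgroup G).index :=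
    index_map_dvd _ (QuotientGroup.mk'_surjective N)
  have hodd : ¬ 2 ∣ M.index := fun h => S.not_dvd_index (h.trans hdvd)
  have h1 := M.card_mul_index
  rw [← N.index_eq_card, K.card_quot] at h1
  have h3 : 0 < Nat.card M := Nat.card_pos
  interval_cases (Nat.card M) <;> omega

/-- The involution case. -/
theorem Kern.case_two (K : Kern u N θ θ' X) (h2 : orderOf u = 2) : N = ⊥ := by
  have := K.normal
  have : Fact (Nat.Prime 2) := ⟨Nat.prime_two⟩
  have huu : u * u = 1 := by rw [← pow_two, ← h2, pow_orderOf_eq_one]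
  have hsq : ∀ g, g ∉ N → g * g ∈ N → g * g = 1 := fun g hg hg2 => by
    obtain ⟨c, hc⟩ := isConj_iff.1 (K.involution hg hg2).1.symm
    rw [← hc]
    calc c * u * c⁻¹ * (c * u * c⁻¹) = c * (u * u) * c⁻¹ := by group
      _ = 1 := by rw [huu]; group
  obtain ⟨S, v, hu, hv, hvN, huvN, hvv, huvv⟩ := K.exists_pair
  have hinv : ∀ g, g ∉ N → g * g ∈ N → ∀ n ∈ N, g * n * g⁻¹ = n⁻¹ := by
    intro g hg hg2 n hn
    have hgn : g * n ∉ N := fun h => hg ((K.mem_mul_iff hn).1 h)
    have hgn2 : g * n * (g * n) ∈ N := by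
      have e : g * n * (g * n) = g * g * (g⁻¹ * n * g * n) := by group
      rw [e]
      exact mul_mem hg2 (mul_mem (Normal.conj_mem' K.normal n hn g) hn)
    have h1 := hsq _ hgn hgn2
    have h3 : g⁻¹ = g := inv_eq_of_mul_eq_one_right (hsq g hg hg2)
    rw [h3]
    exact eq_inv_of_mul_eq_one_left (by rw [← h1]; group)
  refine (Subgroup.eq_bot_iff_forall N).2 fun n hn => ?_
  have hn2 : n⁻¹ = n := by
    have h1 := hinv _ huvN huvv n hn
    have e : u * v * n * (u * v)⁻¹ = u * (v * n * v⁻¹) * u⁻¹ := by group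
    rw [e, hinv v hvN hvv n hn, hinv u K.u_notMem K.u_sq _ (inv_mem hn), inv_inv] at h1
    exact h1.symm
  have hnu : Commute n u := by
    have h1 := hinv u K.u_notMem K.u_sq n hn
    rw [hn2] at h1
    exact (mul_inv_eq_iff_eq_mul.1 h1).symm
  have hvu : Commute v u := by
    have h1 := hsq _ huvN huvv
    have h3 : v * v = 1 := hsq _ hvN hvv
    calc v * u = (u * u) * (v * u) * (v * v) := by rw [huu, h3, one_mul, mul_one]
      _ = u * (u * v * (u * v)) * v := by group
      _ = u * v := by rw [h1, mul_one]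
  by_contra hne
  have hC := (K.involution K.u_notMem K.u_sq).2
  let f : Fin 5 → centralizer ({u} : Set G) := ![1,
    ⟨u, mem_centralizer_self_iff.2 (Commute.refl u)⟩, ⟨v, mem_centralizer_self_iff.2 hvu⟩,
    ⟨u * v, mem_centralizer_self_iff.2 ((Commute.refl u).mul_left hvu)⟩,
    ⟨n, mem_centralizer_self_iff.2 hnu⟩]
  have hinj : Function.Injective f := by
    have e1 : u ≠ v := fun e => huvN (by rw [← e]; exact K.u_sq)
    have e2 : u * v ≠ u := fun e => hvN (by rw [mul_eq_left.1 e]; exact one_mem N)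
    have e3 : u * v ≠ v := fun e => K.hyp.ne (mul_eq_right.1 e)
    have e4 : u ≠ n := fun e => K.u_notMem (e ▸ hn)
    have e5 : v ≠ n := fun e => hvN (e ▸ hn)
    have e6 : u * v ≠ n := fun e => huvN (e ▸ hn)
    have e7 : v ≠ 1 := fun e => hvN (e ▸ one_mem N)
    have e8 : u * v ≠ 1 := fun e => huvN (e ▸ one_mem N)
    intro i j hij
    have hij' := congrArg Subtype.val hij
    fin_cases i <;> fin_cases j <;> first
      | rfl
      | (simp [f] at hij'; first
          | exact absurd hij' K.hyp.ne | exact absurd hij'.symm K.hyp.ne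
          | exact absurd hij' hne | exact absurd hij'.symm hne
          | exact absurd hij' e1 | exact absurd hij'.symm e1
          | exact absurd hij' e2 | exact absurd hij'.symm e2
          | exact absurd hij' e3 | exact absurd hij'.symm e3
          | exact absurd hij' e4 | exact absurd hij'.symm e4
          | exact absurd hij' e5 | exact absurd hij'.symm e5
          | exact absurd hij' e6 | exact absurd hij'.symm e6
          | exact absurd hij' e7 | exact absurd hij'.symm e7
          | exact absurd hij' e8 | exact absurd hij'.symm e8)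
  have := Nat.card_le_card_of_injective f hinj
  rw [hC, Nat.card_eq_fintype_card (α := Fin 5), Fintype.card_fin] at this
  omega

/-- The case of order four: the Sylow 2-subgroups of the kernel have order two. -/
theorem Kern.case_four_sylow (K : Kern u N θ θ' X) (h4 : orderOf u = 4) :
    (∀ g, g ∉ N → g * g ∈ N → g * g ≠ 1 ∧ ∀ d ∈ N, Commute g d → d = 1 ∨ d = g * g) ∧
    ∀ T : Subgroup N, IsPGroup 2 T → Nat.card T ≤ 2 := by
  have := K.normal
  have : Fact (Nat.Prime 2) := ⟨Nat.prime_two⟩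
  have hord : ∀ g, g ∉ N → g * g ∈ N → orderOf g = 4 ∧
      centralizer ({g} : Set G) = zpowers g := by
    intro g hg hg2
    obtain ⟨hc, hcard⟩ := K.involution hg hg2
    have h4g : orderOf g = 4 := by
      obtain ⟨c, hcc⟩ := isConj_iff.1 hc.symm
      rw [← hcc, ← h4]
      exact orderOf_injective (MulAut.conj c).toMonoidHom (MulAut.conj c).injective u
    refine ⟨h4g, (Subgroup.eq_of_le_of_card_ge (zpowers_le.2
      (mem_centralizer_self_iff.2 (Commute.refl g))) ?_).symm⟩
    rw [hcard, Nat.card_zpowers, h4g]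
  have hcomm : ∀ g, g ∉ N → g * g ∈ N → ∀ d ∈ N, Commute g d → d = 1 ∨ d = g * g := by
    intro g hg hg2 d hd hgd
    obtain ⟨h4g, hC⟩ := hord g hg hg2
    have hd' : d ∈ zpowers g := hC ▸ mem_centralizer_self_iff.2 hgd.symm
    rcases zpowers_cases h4g hd' with e | e | e | e
    · exact Or.inl e
    · exact absurd (e ▸ hd) hg
    · exact Or.inr e
    · rw [e] at hd
      exact absurd ((N.mul_mem_cancel_left hg2).1 hd) hg
  have hne1 : ∀ g, g ∉ N → g * g ∈ N → g * g ≠ 1 := fun g hg hg2 e => by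
    have := (hord g hg hg2).1
    have hd : orderOf g ∣ 2 := orderOf_dvd_of_pow_eq_one (by rw [pow_two, e])
    rw [this] at hd
    norm_num at hd
  refine ⟨fun g hg hg2 => ⟨hne1 g hg hg2, hcomm g hg hg2⟩, fun T hT => ?_⟩
  obtain ⟨S, v, hu, hv, hvN, huvN, hvv, huvv⟩ := K.exists_pair
  set t := u * u with ht
  have : Nontrivial (S : Subgroup G) := ⟨⟨⟨u, hu⟩, 1, fun e => K.hyp.ne (congrArg Subtype.val e)⟩⟩
  have hnt := S.isPGroup'.center_nontrivial
  obtain ⟨⟨⟨z, hzS⟩, hz⟩, hz1⟩ := exists_ne (1 : Subgroup.center (S : Subgroup G))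
  have hzc : ∀ x ∈ (S : Subgroup G), Commute x z := fun x hx =>
    congrArg Subtype.val (Subgroup.mem_center_iff.1 hz ⟨x, hx⟩)
  have hz1' : z ≠ 1 := fun e => hz1 (Subtype.ext (Subtype.ext e))
  have hzN : z ∈ N := by
    by_contra hzN
    have h1 : z ∈ zpowers u := (hord u K.u_notMem K.u_sq).2 ▸
      mem_centralizer_self_iff.2 (hzc u hu).symm
    have h2 : z ∈ zpowers v := (hord v hvN hvv).2 ▸ mem_centralizer_self_iff.2 (hzc v hv).symm
    have a1 : z * u⁻¹ ∈ N := by
      rcases zpowers_cases h4 h1 with e | e | e | e <;> subst e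
      · exact absurd (one_mem N) hzN
      · simp
      · exact absurd K.u_sq hzN
      · simpa using K.u_sq
    have a2 : z⁻¹ * v ∈ N := by
      rcases zpowers_cases (hord v hvN hvv).1 h2 with e | e | e | e <;> subst e
      · exact absurd (one_mem N) hzN
      · simp
      · exact absurd hvv hzN
      · have e : (v * v * v)⁻¹ * v = (v * v)⁻¹ := by group
        rw [e]; exact inv_mem hvv
    have a3 : u⁻¹ * v ∈ N := by
      have e' : u⁻¹ * v = (u⁻¹ * (z * u⁻¹) * u) * (z⁻¹ * v) := by group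
      rw [e']
      exact mul_mem (Normal.conj_mem' K.normal _ a1 u) a2
    refine huvN ?_
    have e : u * v = u * u * (u⁻¹ * v) := by group
    rw [e]
    exact mul_mem K.u_sq a3
  have hzt : z = t := ((hcomm u K.u_notMem K.u_sq z hzN (hzc u hu)).resolve_left hz1')
  have hxx : ∀ x ∈ (S : Subgroup G), x ∉ N → x * x = t := fun x hx hxN =>
    (hzt ▸ (hcomm x hxN (K.sq_mem S.isPGroup' hx) z hzN (hzc x hx)).resolve_left hz1').symm
  have hinv : ∀ x ∈ (S : Subgroup G), x ∉ N → ∀ r ∈ (S : Subgroup G), r ∈ N →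
      x⁻¹ * r * x = r⁻¹ := by
    intro x hx hxN r hr hrN
    have h1 := hxx (x * r) (mul_mem hx hr) fun h => hxN ((K.mem_mul_iff hrN).1 h)
    rw [← hxx x hx hxN] at h1
    refine eq_inv_of_mul_eq_one_left ?_
    calc x⁻¹ * r * x * r = x⁻¹ * x⁻¹ * (x * r * (x * r)) := by group
      _ = 1 := by rw [h1]; group
  have hR : ∀ r ∈ (S : Subgroup G), r ∈ N → r = 1 ∨ r = t := by
    intro r hr hrN
    have h1 := hinv _ (mul_mem hu hv) huvN r hr hrN
    have e : (u * v)⁻¹ * r * (u * v) = v⁻¹ * (u⁻¹ * r * u) * v := by group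
    rw [e, hinv u hu K.u_notMem r hr hrN, hinv v hv hvN _ (inv_mem hr) (inv_mem hrN), inv_inv] at h1
    have h2 := hinv u hu K.u_notMem r hr hrN
    rw [← h1, mul_assoc, inv_mul_eq_iff_eq_mul] at h2
    exact hcomm u K.u_notMem K.u_sq r hrN h2.symm
  obtain ⟨S', hS'⟩ := (hT.map N.subtype).exists_le_sylow
  obtain ⟨g, hg⟩ := MulAction.exists_smul_eq G S' S
  have hmem : ∀ y : T, g * ((y : N) : G) * g⁻¹ = 1 ∨ g * ((y : N) : G) * g⁻¹ = t := fun y => by
    refine hR _ ?_ (K.normal.conj_mem _ (y : N).2 g)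
    rw [← hg, Sylow.coe_subgroup_smul]
    exact ⟨((y : N) : G), hS' (mem_map_of_mem _ y.2), rfl⟩
  classical
  refine (Nat.card_le_card_of_injective
    (fun y : T => decide (g * ((y : N) : G) * g⁻¹ = 1)) ?_).trans (by simp)
  intro y z' e
  simp only [decide_eq_decide] at e
  have key : g * ((y : N) : G) * g⁻¹ = g * ((z' : N) : G) * g⁻¹ := by
    rcases hmem y with hy | hy <;> rcases hmem z' with hz' | hz'
    · rw [hy, hz']
    · rw [hy, e.1 hy]
    · rw [hz', e.2 hz']
    · rw [hy, hz']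
  exact Subtype.ext (Subtype.ext (mul_left_cancel (mul_right_cancel key)))

/-- The normal complement in the kernel. -/
theorem Kern.exists_complement (K : Kern u N θ θ' X) (h4 : orderOf u = 4) :
    ∃ O : Subgroup G, O.Normal ∧ O ≤ N ∧ Odd (Nat.card O) ∧ Nat.card N = 2 * Nat.card O ∧
      (∀ x, x ∈ O ↔ x ∈ N ∧ Odd (orderOf x)) ∧ ∀ x ∈ N, x ∈ O ∨ x * (u * u) ∈ O := by
  have := K.normal
  have : Fact (Nat.Prime 2) := ⟨Nat.prime_two⟩
  obtain ⟨hg, hT⟩ := K.case_four_sylow h4
  let t : N := ⟨u * u, K.u_sq⟩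
  have ht1 : t ≠ 1 := fun e => (hg u K.u_notMem K.u_sq).1 (congrArg Subtype.val e)
  have ht2 : orderOf t = 2 := by
    refine orderOf_eq_prime (Subtype.ext ?_) ht1
    show (u * u) ^ 2 = 1
    rw [← pow_two, ← pow_mul]
    exact (congrArg (u ^ ·) h4.symm).trans (pow_orderOf_eq_one u)
  obtain ⟨P, hP⟩ := (IsPGroup.of_card (p := 2) (G := zpowers t) (n := 1)
    (by rw [Nat.card_zpowers, ht2, pow_one])).exists_le_sylow
  have hPeq : zpowers t = (P : Subgroup N) := Subgroup.eq_of_le_of_card_ge hP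
    (by rw [Nat.card_zpowers, ht2]; exact hT _ P.isPGroup')
  have hPmem : ∀ p ∈ (P : Subgroup N), p = 1 ∨ p = t := fun p hp => by
    rw [← hPeq, ← mem_powers_iff_mem_zpowers, Submonoid.mem_powers_iff] at hp
    obtain ⟨k, rfl⟩ := hp
    rw [← pow_mod_orderOf, ht2]
    rcases Nat.mod_two_eq_zero_or_one k with e | e <;> simp [e]
  have hNC : normalizer ((P : Subgroup N) : Set N) ≤ centralizer ((P : Subgroup N) : Set N) := by
    intro x hx
    rw [mem_centralizer_iff]
    intro p hp
    rcases hPmem p hp with rfl | rfl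
    · simp
    · have h1 := (Subgroup.mem_normalizer_iff.1 hx t).1 hp
      rcases hPmem _ h1 with e | e
      · exact absurd (conj_eq_one_iff.1 e) ht1
      · exact (mul_inv_eq_iff_eq_mul.1 e).symm
  have hcompl := MonoidHom.ker_transferSylow_isComplement' P hNC
  set Q := (MonoidHom.transferSylow P hNC).ker with hQ
  have hQodd : Odd (Nat.card Q) :=
    Nat.not_even_iff_odd.1 fun h => MonoidHom.not_dvd_card_ker_transferSylow P hNC
      (even_iff_two_dvd.1 h)
  have hQi : Q.index = 2 := by rw [hcompl.symm.index_eq_card, ← hPeq, Nat.card_zpowers, ht2]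
  have hiff : ∀ x : N, x ∈ Q ↔ Odd (orderOf (x : G)) := fun x => by
    rw [Subgroup.orderOf_coe]
    refine ⟨fun h => Odd.of_dvd_nat hQodd (Subgroup.orderOf_dvd_natCard Q h), fun h => ?_⟩
    have hsq : x * x ∈ Q := Subgroup.mul_self_mem_of_index_two hQi x
    have h1 : x ^ orderOf x ∈ Q := by rw [pow_orderOf_eq_one]; exact one_mem Q
    obtain ⟨k, hk⟩ := h
    rw [hk, pow_succ, pow_mul, pow_two] at h1
    exact (Q.mul_mem_cancel_left (pow_mem hsq k)).1 h1
  have hmem : ∀ x, x ∈ Q.map N.subtype ↔ x ∈ N ∧ Odd (orderOf x) := fun x => by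
    constructor
    · rintro ⟨y, hy, rfl⟩
      exact ⟨y.2, (hiff y).1 hy⟩
    · rintro ⟨hx, ho⟩
      exact ⟨⟨x, hx⟩, (hiff ⟨x, hx⟩).2 ho, rfl⟩
  have hcard : Nat.card (Q.map N.subtype) = Nat.card Q :=
    (Nat.card_congr (Q.equivMapOfInjective _ N.subtype_injective).toEquiv).symm
  refine ⟨Q.map N.subtype, ⟨fun x hx c => ?_⟩, map_subtype_le Q, by rwa [hcard], ?_, hmem,
    fun x hx => ?_⟩
  · rw [hmem] at hx ⊢
    refine ⟨K.normal.conj_mem x hx.1 c, ?_⟩
    have : orderOf (c * x * c⁻¹) = orderOf x :=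
      orderOf_injective (MulAut.conj c).toMonoidHom (MulAut.conj c).injective x
    rw [this]; exact hx.2
  · rw [hcard, ← Q.card_mul_index, hQi, mul_comm]
  · have htQ : t ∉ Q := fun h => by
      have := (hiff t).1 h
      rw [Subgroup.orderOf_coe, ht2] at this
      exact absurd this (by decide)
    by_cases h : (⟨x, hx⟩ : N) ∈ Q
    · exact Or.inl (mem_map_of_mem N.subtype h)
    · have h' : (⟨x, hx⟩ : N) * t ∈ Q := (Subgroup.mul_mem_iff_of_index_two hQi).2
        ⟨fun a => absurd a h, fun a => absurd a htQ⟩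
      exact Or.inr (mem_map_of_mem N.subtype h')

/-- The case of order four. -/
theorem Kern.case_four (K : Kern u N θ θ' X) (h4 : orderOf u = 4) :
    IsMulCommutative ↥(Cfsg.oddCore G) ∧
      Nonempty (G ⧸ Cfsg.oddCore G ≃* Matrix.SpecialLinearGroup (Fin 2) (ZMod 5)) := by
  have := K.normal
  have : Fact (Nat.Prime 2) := ⟨Nat.prime_two⟩
  obtain ⟨hg, -⟩ := K.case_four_sylow h4
  obtain ⟨O, hOn, hON, hOodd, hNcard, hOmem, hcases⟩ := K.exists_complement h4
  obtain ⟨S, v, hu, hv, hvN, huvN, hvv, huvv⟩ := K.exists_pair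
  set t := u * u with ht
  have ht1 : t ≠ 1 := (hg u K.u_notMem K.u_sq).1
  have htt : t * t = 1 := by
    rw [ht, ← pow_two u, ← pow_two, ← pow_mul]
    exact (congrArg (u ^ ·) h4.symm).trans (pow_orderOf_eq_one u)
  have htO : t ∉ O := fun h => ht1 (eq_one_of_sq_odd htt ((hOmem t).1 h).2)
  have hxt : ∀ x, x ∉ N → x * x ∈ N → x * x = t ∨ x * x * t ∈ O := by
    intro x hx hx2
    rcases hcases _ hx2 with h | h
    · obtain ⟨c, hc⟩ := isConj_iff.1 (K.involution hx hx2).1.symm
      have e : x * x = c * t * c⁻¹ := by rw [← hc, ht]; group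
      rw [e] at h
      exact absurd ((hOn.mem_comm_iff).1 (by
        have := hOn.conj_mem _ h c⁻¹
        rwa [show c⁻¹ * (c * t * c⁻¹) * c⁻¹⁻¹ = t * 1 by group] at this)) (by simpa using htO)
    · exact Or.inr h
  -- the centralizer of t in O is trivial
  have hCO : ∀ d ∈ O, Commute t d → d = 1 := by
    have hsq : ∀ x, x ∈ (S : Subgroup G) → x ∉ N → x * x = t := by
      intro x hx hxN
      have hx2 := K.sq_mem S.isPGroup' hx
      rcases hxt x hxN hx2 with e | e
      · exact e
      · have hS2 : x * x * t ∈ (S : Subgroup G) :=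
          mul_mem (mul_mem hx hx) (ht ▸ mul_mem hu hu)
        obtain ⟨k, hk⟩ := IsPGroup.iff_orderOf.1 S.isPGroup' ⟨_, hS2⟩
        rw [← Subgroup.orderOf_coe] at hk
        have ho : Odd (orderOf (x * x * t)) := ((hOmem _).1 e).2
        simp only at hk
        rw [hk] at ho
        have hk0 : k = 0 := by
          by_contra hk0
          exact Nat.not_even_iff_odd.2 ho (Even.pow_of_ne_zero (by decide) hk0)
        rw [hk0, pow_zero, orderOf_eq_one_iff] at hk
        rw [eq_comm, ← inv_eq_of_mul_eq_one_left hk]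
        exact (inv_eq_of_mul_eq_one_left htt).symm
    let D : Subgroup G := O ⊓ centralizer ({t} : Set G)
    have hinv : ∀ x, x ∈ (S : Subgroup G) → x ∉ N → ∀ d ∈ D, x * d * x⁻¹ = d⁻¹ := by
      intro x hx hxN
      have hxx := hsq x hx hxN
      have hxc : Commute x t := by rw [← hxx]; exact (Commute.refl x).mul_right (Commute.refl x)
      refine conj_inverts (fun d hd => ⟨hOn.conj_mem d hd.1 x, ?_⟩) (fun d hd => ?_)
        fun d hd hxd => ?_
      · refine mem_centralizer_self_iff.2 ?_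
        exact (hxc.mul_left (mem_centralizer_self_iff.1 hd.2)).mul_left hxc.inv_left
      · rw [hxx]; exact (mem_centralizer_self_iff.1 hd.2).symm
      · rcases (hg x hxN (by rw [hxx]; exact K.u_sq)).2 d (hON hd.1) hxd with e | e
        · exact e
        · exact absurd (e.trans hxx ▸ hd.1) htO
    intro d hdO hdt
    have hd : d ∈ D := ⟨hdO, mem_centralizer_self_iff.2 hdt.symm⟩
    have h1 := hinv _ (mul_mem hu hv) huvN d hd
    have e : u * v * d * (u * v)⁻¹ = u * (v * d * v⁻¹) * u⁻¹ := by group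
    rw [e, hinv v hv hvN d hd, hinv u hu K.u_notMem _ (inv_mem hd), inv_inv] at h1
    exact eq_one_of_sq_odd (eq_inv_iff_mul_eq_one.1 h1) ((hOmem d).1 hdO).2
  have hab : ∀ a ∈ O, ∀ b ∈ O, a * b = b * a := by
    have hinv := conj_inverts (H := O) (x := t) (fun d hd => hOn.conj_mem d hd t)
      (fun d _ => by rw [htt]; exact Commute.one_left d) hCO
    intro a ha b hb
    have h1 := hinv (a * b) (mul_mem ha hb)
    rw [show t * (a * b) * t⁻¹ = (t * a * t⁻¹) * (t * b * t⁻¹) by group, hinv a ha, hinv b hb,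
      mul_inv_rev] at h1
    have := congrArg (fun z => z⁻¹) h1
    simpa using this.symm
  have hcore : Cfsg.oddCore G = O := by
    refine le_antisymm (fun x hx => ?_) (Core.le_pPrimeCore (Nat.coprime_two_right.2 hOodd))
    have hodd : Odd (Nat.card (Cfsg.oddCore G)) :=
      Nat.coprime_two_right.1 (Core.coprime_card_pPrimeCore (p := 2))
    refine (hOmem x).2 ⟨?_, Odd.of_dvd_nat hodd (Subgroup.orderOf_dvd_natCard _ hx)⟩
    have hn : (Cfsg.oddCore G ⊔ N).Normal := inferInstance
    by_cases htop : Cfsg.oddCore G ⊔ N = ⊤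
    · exfalso
      have h1 : ((Cfsg.oddCore G).map (QuotientGroup.mk' N)) = ⊤ := by
        rw [← comap_injective (QuotientGroup.mk'_surjective N) |>.eq_iff, comap_map_eq,
          QuotientGroup.ker_mk', comap_top, htop]
      have h2 := (Cfsg.oddCore G).card_map_dvd (QuotientGroup.mk' N)
      rw [h1, Subgroup.card_top, ← N.index_eq_card, K.card_quot] at h2
      exact absurd (Odd.of_dvd_nat hodd h2) (by decide)
    · exact K.maximal _ hn le_sup_right htop ▸ mem_sup_left hx
  refine ⟨⟨⟨fun a b => Subtype.ext (hab _ (hcore ▸ a.2) _ (hcore ▸ b.2))⟩⟩, ?_⟩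
  suffices Nonempty (G ⧸ O ≃* Matrix.SpecialLinearGroup (Fin 2) (ZMod 5)) by
    obtain ⟨f⟩ := this
    exact ⟨(QuotientGroup.quotientMulEquivOfEq hcore).trans f⟩
  have : Fact (Nat.Prime 5) := ⟨Nat.prime_five⟩
  have hsimp : IsSimpleGroup (G ⧸ N) := by
    have : Nontrivial (G ⧸ N) := Finite.one_lt_card_iff_nontrivial.1 (by
      rw [← N.index_eq_card, K.card_quot]; norm_num)
    exact ⟨fun M hM => or_iff_not_imp_right.2 fun hne => Sixty.normal_eq_bot
      (Sixty.noLinear_quotient K.hyp.noLinear N) K.card_quot hne⟩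
  obtain ⟨e⟩ := Classical.Small.simple_sixty (G := G ⧸ N) K.card_quot
  let p : G ⧸ O →* G ⧸ N := QuotientGroup.map O N (MonoidHom.id G) hON
  let π : G ⧸ O →* alternatingGroup (Fin 5) := e.toMonoidHom.comp p
  refine Recog.sl_two_five ?_ (z := (QuotientGroup.mk t : G ⧸ O)) ?_ ?_ π ?_ ?_ ?_
  · have h1 := O.card_mul_index
    have h2 := N.card_mul_index
    rw [hNcard, K.card_quot, ← h1] at h2
    rw [← O.index_eq_card]
    exact Nat.eq_of_mul_eq_mul_left (Nat.card_pos (α := O)) (by linarith)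
  · intro q
    obtain ⟨g, rfl⟩ := QuotientGroup.mk_surjective q
    have hc : g * t * g⁻¹ ∈ N := K.normal.conj_mem t K.u_sq g
    rcases hcases _ hc with h | h
    · exfalso
      refine htO ?_
      have := hOn.conj_mem _ h g⁻¹
      simpa [mul_assoc] using this
    · show (QuotientGroup.mk (g * t) : G ⧸ O) = QuotientGroup.mk (t * g)
      refine (QuotientGroup.eq.2 ?_).symm
      have e2 : (t * g)⁻¹ * (g * t) = g⁻¹ * (t⁻¹ * (g * t * g⁻¹)) * g := by group
      rw [e2]
      refine Normal.conj_mem' hOn _ ?_ g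
      have e3 : t⁻¹ * (g * t * g⁻¹) = t⁻¹ * (g * t * g⁻¹ * t) * t := by
        rw [show t⁻¹ * (g * t * g⁻¹ * t) * t = t⁻¹ * (g * t * g⁻¹) * (t * t) by group, htt, mul_one]
      rw [e3]
      exact Normal.conj_mem' hOn _ h t
  · rw [← QuotientGroup.mk_mul, htt, QuotientGroup.mk_one]
  · refine e.surjective.comp fun q => ?_
    obtain ⟨g, rfl⟩ := QuotientGroup.mk_surjective q
    exact ⟨QuotientGroup.mk g, rfl⟩
  · intro q
    obtain ⟨g, rfl⟩ := QuotientGroup.mk_surjective q
    show e (QuotientGroup.mk g : G ⧸ N) = 1 ↔ _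
    rw [MulEquiv.map_eq_one_iff, QuotientGroup.eq_one_iff, QuotientGroup.eq_one_iff]
    constructor
    · intro h
      rcases hcases g h with h' | h'
      · exact Or.inl h'
      · refine Or.inr (QuotientGroup.eq.2 ?_)
        have : (g * t)⁻¹ ∈ O := inv_mem h'
        rw [mul_inv_rev, inv_eq_of_mul_eq_one_left htt] at this
        have h2 := Normal.conj_mem' hOn _ this t
        rw [show t⁻¹ * (t * g⁻¹) * t = g⁻¹ * t by group] at h2
        exact h2
    · rintro (h | h)
      · exact hON h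
      · have h' := QuotientGroup.eq.1 h
        have := mul_mem K.u_sq (inv_mem (hON h'))
        rwa [mul_inv_rev, inv_inv, ← mul_assoc, ← ht, mul_inv_cancel, one_mul] at this
  · intro q hq
    obtain ⟨g, rfl⟩ := QuotientGroup.mk_surjective q
    rw [← QuotientGroup.mk_mul, QuotientGroup.eq_one_iff] at hq
    rw [QuotientGroup.eq_one_iff]
    by_cases hgN : g ∈ N
    · rcases hcases g hgN with h | h
      · exact Or.inl h
      · refine Or.inr (QuotientGroup.eq.2 ?_)
        have : (g * t)⁻¹ ∈ O := inv_mem h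
        rw [mul_inv_rev, inv_eq_of_mul_eq_one_left htt] at this
        have h2 := Normal.conj_mem' hOn _ this t
        rw [show t⁻¹ * (t * g⁻¹) * t = g⁻¹ * t by group] at h2
        exact h2
    · exfalso
      rcases hxt g hgN (hON hq) with h | h
      · exact htO (h ▸ hq)
      · exact htO ((O.mul_mem_cancel_left hq).1 h)

/-- The classification. -/
theorem Hyp.structure_theorem (H : Hyp u) :
    IsMulCommutative ↥(Cfsg.oddCore G) ∧
      ((Nonempty (G ⧸ Cfsg.oddCore G ≃* Matrix.ProjectiveSpecialLinearGroup (Fin 2) (ZMod 5)) ∧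
          orderOf u = 2) ∨
        (Nonempty (G ⧸ Cfsg.oddCore G ≃* Matrix.SpecialLinearGroup (Fin 2) (ZMod 5)) ∧
          orderOf u = 4)) := by
  obtain ⟨N, θ, θ', X, K⟩ := H.exists_kern
  rcases K.orderOf_u with h | h
  · obtain rfl := K.case_two h
    have hG : Nat.card G = 60 := by rw [← Subgroup.index_bot]; exact K.card_quot
    have : Nontrivial G := Finite.one_lt_card_iff_nontrivial.1 (by omega)
    have hs : IsSimpleGroup G := ⟨fun M hM => or_iff_not_imp_right.2 fun hne =>
      Sixty.normal_eq_bot H.noLinear hG hne⟩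
    have hcore : Cfsg.oddCore G = ⊥ := by
      rcases IsSimpleGroup.eq_bot_or_eq_top_of_normal (Cfsg.oddCore G) inferInstance with e | e
      · exact e
      · exfalso
        have := Core.coprime_card_pPrimeCore (p := 2) (G := G)
        rw [show pPrimeCore 2 G = Cfsg.oddCore G from rfl, e, Subgroup.card_top, hG] at this
        norm_num at this
    obtain ⟨e⟩ := Recog.psl_two_five hG
    have hab : ∀ a : ↥(Cfsg.oddCore G), a = 1 := fun a =>
      Subtype.ext (Subgroup.mem_bot.1 (hcore ▸ a.2))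
    exact ⟨⟨⟨fun a b => by rw [hab a, hab b]⟩⟩, Or.inl ⟨⟨((QuotientGroup.quotientMulEquivOfEq hcore).trans
      QuotientGroup.quotientBot).trans e⟩, h⟩⟩
  · obtain ⟨ha, hiso⟩ := K.case_four h
    exact ⟨ha, Or.inr ⟨hiso, h⟩⟩

end Cfsg.Agent.ConstFour
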