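import Cfsg.Agent.ConstFour.Basic

/-!
# A real character of degree three
-/

namespace Cfsg.Agent.ConstFour

open scoped ComplexConjugate
open Cfsg.Agent.Char

universe v
variable {G : Type v} [Group G] [Finite G] {u : G}

/-- An irreducible character of degree three with value `-1`. -/
def IsThree (u : G) (θ : G → ℂ) : Prop := IsIrrCharacter G θ ∧ θ 1 = 3 ∧ θ u = -1

/-- Pointwise complex conjugate. -/
noncomputable def cj (χ : G → ℂ) : G → ℂ := fun g => conj (χ g)

omit [Group G] [Finite G] in
@[simp] theorem cj_apply (χ : G → ℂ) (g : G) : cj χ g = conj (χ g) := rfl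

omit [Group G] [Finite G] in
theorem cj_cj (χ : G → ℂ) : cj (cj χ) = χ := by funext g; simp

theorem isCharacter_cj {χ : G → ℂ} (h : IsCharacter G χ) : IsCharacter G (cj χ) :=
  isCharacter_conj h

theorem isIrr_cj {χ : G → ℂ} (h : IsIrrCharacter G χ) : IsIrrCharacter G (cj χ) := by
  have := Fintype.ofFinite G
  refine (isIrr_iff_norm_one (isCharacter_cj (IsIrr.isCharacter h))).2 ?_
  have : classInner (cj χ) (cj χ) = conj (classInner χ χ) := by
    simp [classInner, map_mul, map_sum]
  rw [this, classInner_irr_self h, map_one]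

omit [Finite G] in
theorem classInner_move [Fintype G] (a b c : G → ℂ) :
    classInner (a * b) c = classInner a (cj b * c) := by
  simp [classInner, mul_assoc]

theorem IsThree.sq_mem (H : Hyp u) {θ : G → ℂ} (h : IsThree u θ) : θ (u * u) = θ 1 :=
  sq_mem_kernel H.noLinear (IsIrr.isCharacter h.1) h.2.1 h.2.2

theorem IsN.three {χ : G → ℂ} (h : IsN u χ) (h3 : deg χ = 3) : IsThree u χ :=
  ⟨h.1, by rw [deg_eq (IsIrr.isCharacter h.1), h3]; norm_num, by rw [h.2.1, h3]; norm_num⟩

theorem IsV.one_le {χ : G → ℂ} (h : IsV u χ) : 4 ≤ deg χ :=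
  Nat.le_of_dvd (deg_pos h.1) h.2.2.1

theorem IsN.three_le {χ : G → ℂ} (h : IsN u χ) : 3 ≤ deg χ := by
  rcases h.2.2 with e | e <;> omega

theorem vanishing_small {B : Multiset (G → ℂ)} (hB : ∀ χ ∈ B, IsV u χ) {w : ℕ}
    (hw : (B.map deg).sum = 4 * w) :
    (w = 0 → B = 0) ∧ (w = 1 → ∃ b, B = {b} ∧ deg b = 4) ∧
      (w = 2 → (∃ b, B = {b}) ∨ ∃ b ∈ B, deg b = 4) := by
  induction B using Multiset.induction with
  | empty =>
    simp only [Multiset.map_zero, Multiset.sum_zero] at hw
    exact ⟨fun _ => rfl, fun e => by omega, fun e => by omega⟩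
  | cons a s _ =>
    have ha := hB a (Multiset.mem_cons_self a s)
    have h4 := ha.one_le
    obtain ⟨j, hj⟩ := ha.2.2.1
    rw [Multiset.map_cons, Multiset.sum_cons] at hw
    have hs : ∀ c ∈ s, 4 ≤ (s.map deg).sum := fun c hc =>
      (hB c (Multiset.mem_cons_of_mem hc)).one_le.trans
        (Multiset.single_le_sum (fun _ _ => Nat.zero_le _) _ (Multiset.mem_map_of_mem deg hc))
    refine ⟨fun e => by omega, fun e => ⟨a, ?_, by omega⟩, fun e => ?_⟩
    · rw [Multiset.eq_zero_of_forall_notMem (s := s) fun c hc => by have := hs c hc; omega]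
      rfl
    · rcases eq_or_ne s 0 with rfl | hne
      · exact Or.inl ⟨a, rfl⟩
      · obtain ⟨c, hc⟩ := Multiset.exists_mem_of_ne_zero hne
        have := hs c hc
        exact Or.inr ⟨a, Multiset.mem_cons_self a s, by omega⟩

theorem classInner_sum_zero [Fintype G] {s : Multiset (G → ℂ)} {ψ : G → ℂ}
    (h : ∀ χ ∈ s, classInner χ ψ = 0) : classInner s.sum ψ = 0 := by
  induction s using Multiset.induction with
  | empty => rw [Multiset.sum_zero, classInner_zero_left]
  | cons a s ih =>
    rw [Multiset.sum_cons, classInner_add_left, h a (Multiset.mem_cons_self a s),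
      ih fun χ hχ => h χ (Multiset.mem_cons_of_mem hχ), add_zero]

/-- Degree eight, value zero. -/
theorem Hyp.eight [Fintype G] (H : Hyp u) {Φ : G → ℂ} (h : IsCharacter G Φ)
    (hk : Φ (u * u) = Φ 1) (h1 : Φ 1 = 8) (hu : Φ u = 0)
    (h0 : classInner Φ (fun _ => (1 : ℂ)) = 0) :
    (∃ a b, IsThree u a ∧ IsN u b ∧ deg b = 5 ∧ Φ = a + b) ∨
      ((∀ ψ, IsIrrCharacter G ψ → ψ u ≠ 0 → classInner Φ ψ = 0) ∧
        ((∃ ρ, IsV u ρ ∧ deg ρ = 4) ∨ IsIrrCharacter G Φ)) := by
  obtain ⟨t, A, B, w, e, hA, hB, hw, hM, hD⟩ := H.decomp' h hk (D := 8) (M := 2)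
    (by rw [h1]; norm_num) (by rw [h1, hu]; norm_num)
  obtain rfl := classInner_one_decomp e hA hB h0
  obtain ⟨hw0, hw1, hw2⟩ := vanishing_small hB hw
  have e0 : Φ = A.sum + B.sum := by
    rw [e]; funext g; simp
  rcases (show Multiset.card A = 0 ∨ Multiset.card A = 1 ∨ Multiset.card A = 2 by omega) with
    hc | hc | hc
  · obtain rfl := Multiset.card_eq_zero.1 hc
    rw [Multiset.sum_zero, zero_add] at e0
    refine Or.inr ⟨fun ψ hψ hne => ?_, ?_⟩
    · rw [e0]
      exact classInner_sum_zero fun χ hχ =>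
        classInner_irr_ne (hB χ hχ).1 hψ fun he => hne (he ▸ (hB χ hχ).2.1)
    · rcases hw2 (by omega) with ⟨b, rfl⟩ | ⟨b, hb, hb4⟩
      · rw [Multiset.sum_singleton] at e0
        exact Or.inr (e0 ▸ (hB b (Multiset.mem_singleton_self b)).1)
      · exact Or.inl ⟨b, hB b hb, hb4⟩
  · obtain ⟨a, rfl⟩ := Multiset.card_eq_one.1 hc
    have := (hA a (Multiset.mem_singleton_self a)).2.2
    simp only [Multiset.map_singleton, Multiset.sum_singleton] at hD
    omega
  · obtain ⟨a, b, rfl⟩ := Multiset.card_eq_two.1 hc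
    obtain rfl := hw0 (by omega)
    have ha := hA a (by simp)
    have hb := hA b (by simp)
    rw [Multiset.sum_pair, Multiset.sum_zero, add_zero] at e0
    simp only [Multiset.insert_eq_cons, Multiset.map_cons, Multiset.map_singleton,
      Multiset.sum_cons, Multiset.sum_singleton] at hD
    have h1 := ha.2.2
    have h2 := hb.2.2
    refine Or.inl ?_
    rcases h1 with h1 | h1
    · exact ⟨a, b, ha.three h1, hb, by omega, e0⟩
    · exact ⟨b, a, hb.three (by omega), ha, by omega, e0.trans (add_comm a b)⟩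

/-- Degree ten, value minus two: a vanishing constituent of degree four. -/
theorem Hyp.ten [Fintype G] (H : Hyp u) {Φ : G → ℂ} (h : IsCharacter G Φ)
    (hk : Φ (u * u) = Φ 1) (h1 : Φ 1 = 10) (hu : Φ u = -2)
    (h0 : classInner Φ (fun _ => (1 : ℂ)) = 0) : ∃ ρ, IsV u ρ ∧ deg ρ = 4 := by
  obtain ⟨t, A, B, w, e, hA, hB, hw, hM, hD⟩ := H.decomp' h hk (D := 10) (M := 3)
    (by rw [h1]; norm_num) (by rw [h1, hu]; norm_num)
  obtain rfl := classInner_one_decomp e hA hB h0
  obtain ⟨hw0, hw1, hw2⟩ := vanishing_small hB hw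
  rcases (show Multiset.card A = 0 ∨ Multiset.card A = 1 ∨ Multiset.card A = 2 ∨
      Multiset.card A = 3 by omega) with hc | hc | hc | hc
  · obtain rfl := Multiset.card_eq_zero.1 hc
    simp only [Multiset.map_zero, Multiset.sum_zero] at hD
    omega
  · obtain ⟨a, rfl⟩ := Multiset.card_eq_one.1 hc
    have := (hA a (Multiset.mem_singleton_self a)).three_le
    simp only [Multiset.map_singleton, Multiset.sum_singleton] at hD
    omega
  · obtain ⟨b, rfl, hb⟩ := hw1 (by omega)
    exact ⟨b, hB b (Multiset.mem_singleton_self b), hb⟩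
  · obtain ⟨a, b, c, rfl⟩ := Multiset.card_eq_three.1 hc
    have h1 := (hA a (by simp)).2.2
    have h2 := (hA b (by simp)).2.2
    have h3 := (hA c (by simp)).2.2
    simp only [Multiset.insert_eq_cons, Multiset.map_cons, Multiset.map_singleton,
      Multiset.sum_cons, Multiset.sum_singleton] at hD
    omega

/-- Degree six, value minus two: two characters of degree three. -/
theorem Hyp.six [Fintype G] (H : Hyp u) {Φ : G → ℂ} (h : IsCharacter G Φ)
    (hk : Φ (u * u) = Φ 1) (h1 : Φ 1 = 6) (hu : Φ u = -2) :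
    ∃ a b, IsThree u a ∧ IsThree u b ∧ Φ = a + b := by
  obtain ⟨t, A, B, w, e, hA, hB, hw, hM, hD⟩ := H.decomp' h hk (D := 6) (M := 2)
    (by rw [h1]; norm_num) (by rw [h1, hu]; norm_num)
  obtain ⟨hw0, hw1, hw2⟩ := vanishing_small hB hw
  rcases (show Multiset.card A = 0 ∨ Multiset.card A = 1 ∨ Multiset.card A = 2 by omega) with
    hc | hc | hc
  · omega
  · obtain ⟨a, rfl⟩ := Multiset.card_eq_one.1 hc
    have := (hA a (Multiset.mem_singleton_self a)).three_le
    simp only [Multiset.map_singleton, Multiset.sum_singleton] at hD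
    omega
  · obtain ⟨a, b, rfl⟩ := Multiset.card_eq_two.1 hc
    obtain rfl := hw0 (by omega)
    have ha := hA a (by simp)
    have hb := hA b (by simp)
    simp only [Multiset.insert_eq_cons, Multiset.map_cons, Multiset.map_singleton,
      Multiset.sum_cons, Multiset.sum_singleton] at hD
    have h1 := ha.three_le
    have h2 := hb.three_le
    obtain rfl : t = 0 := by omega
    refine ⟨a, b, ha.three (by omega), hb.three (by omega), ?_⟩
    rw [e, Multiset.sum_pair, Multiset.sum_zero, add_zero]
    funext g; simp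

/-- Degree nine, value one: two constituents. -/
theorem Hyp.nine [Fintype G] (H : Hyp u) {Φ : G → ℂ} (h : IsCharacter G Φ)
    (hk : Φ (u * u) = Φ 1) (h1 : Φ 1 = 9) (hu : Φ u = 1)
    (h0 : classInner Φ (fun _ => (1 : ℂ)) = 0) :
    classInner Φ Φ = 2 ∨ classInner Φ Φ = 4 := by
  classical
  obtain ⟨t, A, B, w, e, hA, hB, hw, hM, hD⟩ := H.decomp' h hk (D := 9) (M := 2)
    (by rw [h1]; norm_num) (by rw [h1, hu]; norm_num)
  obtain rfl := classInner_one_decomp e hA hB h0
  obtain ⟨hw0, hw1, hw2⟩ := vanishing_small hB hw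
  have e0 : Φ = A.sum + B.sum := by
    rw [e]; funext g; simp
  suffices ∃ a b, IsIrrCharacter G a ∧ IsIrrCharacter G b ∧ Φ = a + b by
    obtain ⟨a, b, ha, hb, rfl⟩ := this
    rw [classInner_add_left, classInner_add_right, classInner_add_right, classInner_irr ha ha,
      classInner_irr ha hb, classInner_irr hb ha, classInner_irr hb hb]
    by_cases hab : a = b
    · subst hab; norm_num
    · simp [hab, Ne.symm hab]; norm_num
  rcases (show Multiset.card A = 0 ∨ Multiset.card A = 1 ∨ Multiset.card A = 2 by omega) with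
    hc | hc | hc
  · obtain rfl := Multiset.card_eq_zero.1 hc
    simp only [Multiset.map_zero, Multiset.sum_zero] at hD
    omega
  · obtain ⟨a, rfl⟩ := Multiset.card_eq_one.1 hc
    obtain ⟨b, rfl, -⟩ := hw1 (by omega)
    exact ⟨a, b, (hA a (Multiset.mem_singleton_self a)).1, (hB b (Multiset.mem_singleton_self b)).1,
      by rw [e0, Multiset.sum_singleton, Multiset.sum_singleton]⟩
  · obtain ⟨a, b, rfl⟩ := Multiset.card_eq_two.1 hc
    obtain rfl := hw0 (by omega)
    exact ⟨a, b, (hA a (by simp)).1, (hA b (by simp)).1,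
      by rw [e0, Multiset.sum_pair, Multiset.sum_zero, add_zero]⟩

/-- The nontrivial part of `θ * conj θ`. -/
noncomputable def red (θ : G → ℂ) : G → ℂ := θ * cj θ - fun _ => (1 : ℂ)

theorem IsThree.red_props [Fintype G] (H : Hyp u) {θ : G → ℂ} (h : IsThree u θ) :
    IsCharacter G (red θ) ∧ red θ (u * u) = red θ 1 ∧ red θ 1 = 8 ∧ red θ u = 0 ∧
      classInner (red θ) (fun _ => (1 : ℂ)) = 0 := by
  have hc := IsIrr.isCharacter h.1
  have hone : classInner (θ * cj θ) (fun _ => (1 : ℂ)) = 1 := by
    rw [classInner_move, cj_cj, show θ * (fun _ => (1 : ℂ)) = θ from mul_one θ,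
      classInner_irr_self h.1]
  have h1 : red θ 1 = 8 := by
    simp only [red, Pi.sub_apply, Pi.mul_apply, cj_apply, h.2.1, map_ofNat]; norm_num
  refine ⟨IsChar.sub_constituent (isCharacter_mul hc (isCharacter_cj hc)) isIrrCharacter_one
    (by rw [hone]; exact one_ne_zero), ?_, h1, ?_, ?_⟩
  · simp [red, h.sq_mem H]
  · simp [red, h.2.2]
  · rw [red, classInner_sub_left, hone, classInner_irr_self isIrrCharacter_one, sub_self]

theorem Hyp.real_of_four (H : Hyp u) {ρ : G → ℂ} (hρ : IsV u ρ) (h4 : deg ρ = 4) :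
    ∃ θ, IsThree u θ ∧ cj θ = θ := by
  have hk := hρ.2.2.2
  have := Fintype.ofFinite G
  have hc := IsIrr.isCharacter hρ.1
  have hd : ρ 1 = 4 := by rw [deg_eq hc, h4]; norm_num
  have hk4 : ρ (u * u * (u * u)) = ρ 1 := (IsChar.mul_left_of_mem_kernel hc hk _).trans hk
  obtain ⟨a, b, ha, hb, hab⟩ := H.six (isCharacter_alt hc)
    (by simp only [alt, mul_one, hk, hk4]) (by simp only [alt, mul_one, hd]; norm_num)
    (by simp only [alt, hρ.2.1, hk, hd]; norm_num)
  by_cases hr : cj a = a
  · exact ⟨a, ha, hr⟩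
  exfalso
  have ia := ha.1
  have ica := isIrr_cj ha.1
  have hsym : cj a + cj b = a + b := by
    rw [← hab]
    funext g
    have := conj_alt_four H.noLinear hc hd g
    rw [congrFun hab g] at this
    simpa [congrFun hab g] using this
  have hbe : b = cj a := by
    have h := congrArg (fun f => classInner f (cj a)) hsym
    simp only [classInner_add_left, classInner_irr_self ica,
      classInner_irr_ne ia ica (Ne.symm hr), zero_add] at h
    by_contra hne
    rw [classInner_irr_ne hb.1 ica hne] at h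
    obtain ⟨k, hk'⟩ := classInner_isCharacter_eq_natCast
      (isCharacter_cj (IsIrr.isCharacter hb.1)) (IsIrr.isCharacter ica)
    rw [hk'] at h
    exact Nat.cast_ne_zero.2 (show 1 + k ≠ 0 by omega) (by push_cast; exact h)
  have key : alt (alt ρ) = cj a + a + a * cj a := by
    rw [hab, hbe]
    funext g
    have e1 := alt_three H.noLinear (IsIrr.isCharacter ia) ha.2.1 g
    have e2 := alt_three H.noLinear (isCharacter_cj (IsIrr.isCharacter ia))
      (by simp [ha.2.1, Complex.conj_ofNat]) g
    simp only [alt, cj_apply, Complex.conj_conj, Pi.add_apply, Pi.mul_apply] at e1 e2 ⊢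
    linear_combination e1 + e2
  have key' : alt (alt ρ) = ρ * cj ρ - fun _ => (1 : ℂ) :=
    funext fun g => alt_alt_four H.noLinear hc hd g
  have one3 : ∀ {c : G → ℂ}, c 1 = 3 → IsIrrCharacter G c →
      classInner c (fun _ => (1 : ℂ)) = 0 := fun hc3 hci => by
    refine classInner_irr_ne hci isIrrCharacter_one fun e => ?_
    rw [e] at hc3
    norm_num at hc3
  have e := congrArg (fun f => classInner f (fun _ : G => (1 : ℂ))) (key.symm.trans key')
  simp only [classInner_add_left, classInner_sub_left, classInner_move, cj_cj] at e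
  rw [one3 (by simp [ha.2.1, Complex.conj_ofNat]) ica, one3 ha.2.1 ia,
    show a * (fun _ => (1 : ℂ)) = a from mul_one a,
    show ρ * (fun _ => (1 : ℂ)) = ρ from mul_one ρ, classInner_irr_self ia,
    classInner_irr_self hρ.1, classInner_irr_self isIrrCharacter_one] at e
  norm_num at e

/-- A real character of degree three. -/
theorem Hyp.exists_real (H : Hyp u) : ∃ θ, IsThree u θ ∧ cj θ = θ := by
  have := Fintype.ofFinite G
  obtain ⟨θ, hθ, h1, hu⟩ := H.exists_three
  have h : IsThree u θ := ⟨hθ, h1, hu⟩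
  obtain ⟨hΦc, hΦk, hΦ1, hΦu, hΦ0⟩ := h.red_props H
  rcases H.eight hΦc hΦk hΦ1 hΦu hΦ0 with ⟨a, b, ha, hb, hb5, e⟩ | ⟨-, hcase⟩
  · refine ⟨a, ha, ?_⟩
    have ia := ha.1
    have ica := isIrr_cj ha.1
    have hsym : cj a + cj b = a + b := by
      rw [← e]
      funext g
      have e' := congrFun e g
      simp only [Pi.add_apply] at e'
      simp only [Pi.add_apply, cj_apply, red, Pi.sub_apply, Pi.mul_apply] at e' ⊢
      rw [← map_add, ← e']
      simp [mul_comm]
    by_contra hne
    have h' := congrArg (fun f => classInner f (cj a)) hsym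
    simp only [classInner_add_left, classInner_irr_self ica,
      classInner_irr_ne ia ica (Ne.symm hne)] at h'
    rw [classInner_irr_ne hb.1 ica fun he => ?_,
      classInner_irr_ne (isIrr_cj hb.1) ica fun he => ?_] at h'
    · norm_num at h'
    · have := congrFun he 1
      simp only [cj_apply, deg_eq (IsIrr.isCharacter hb.1), hb5, ha.2.1, map_ofNat,
        Complex.conj_natCast] at this
      norm_num at this
    · have := congrFun he 1
      simp only [cj_apply, deg_eq (IsIrr.isCharacter hb.1), hb5, ha.2.1, map_ofNat] at this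
      norm_num at this
  rcases hcase with ⟨ρ, hρ, h4⟩ | hΦi
  · exact H.real_of_four hρ h4
  have hc := IsIrr.isCharacter hθ
  have hS := isCharacter_sym hc
  have hone : classInner θ θ = 1 := classInner_irr_self hθ
  have hadd : θ * θ = sym θ + cj θ := by
    funext g
    have e1 := alt_three H.noLinear hc h1 g
    simp only [alt] at e1
    simp only [sym, Pi.mul_apply, Pi.add_apply, cj_apply]
    linear_combination e1
  have hnorm : classInner (θ * θ) (θ * θ) = 2 := by
    have e1 : classInner (θ * θ) (θ * θ) = classInner (θ * cj θ) (θ * cj θ) := by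
      simp only [classInner, Pi.mul_apply, cj_apply, map_mul, Complex.conj_conj]
      congr 1
      exact Finset.sum_congr rfl fun g _ => by ring
    have hΦ0' : classInner (fun _ : G => (1 : ℂ)) (red θ) = 0 := by
      rw [← classInner_conj_symm, hΦ0, map_zero]
    rw [e1, show θ * cj θ = red θ + fun _ => (1 : ℂ) by simp [red], classInner_add_left,
      classInner_add_right, classInner_add_right, classInner_irr_self hΦi,
      classInner_irr_self isIrrCharacter_one, hΦ0, hΦ0']
    norm_num
  obtain ⟨k, hk⟩ := classInner_isCharacter_eq_natCast hS (isCharacter_cj hc)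
  obtain ⟨m, hm⟩ := classInner_isCharacter_eq_natCast hS hS
  have hk' : classInner (cj θ) (sym θ) = (k : ℂ) := by
    rw [← classInner_conj_symm, hk, Complex.conj_natCast]
  have hkm : k = 0 ∧ m = 1 := by
    rw [hadd, classInner_add_left, classInner_add_right, classInner_add_right, hm, hk, hk',
      classInner_irr_self (isIrr_cj hθ)] at hnorm
    have e1 : ((m + k + (k + 1) : ℕ) : ℂ) = ((2 : ℕ) : ℂ) := by push_cast; exact hnorm
    have := Nat.cast_injective e1
    omega
  obtain ⟨rfl, rfl⟩ := hkm
  have hk4 : θ (u * u * (u * u)) = θ 1 :=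
    (IsChar.mul_left_of_mem_kernel hc (h.sq_mem H) _).trans (h.sq_mem H)
  obtain ⟨n, hn⟩ := classInner_isCharacter_eq_natCast (isCharacter_mul hS hS) hc
  have hY : IsCharacter G (θ * sym θ) := isCharacter_mul hc hS
  have hY0 : classInner (θ * sym θ) (fun _ => (1 : ℂ)) = 0 := by
    rw [mul_comm θ (sym θ), classInner_move,
      show cj θ * (fun _ : G => (1 : ℂ)) = cj θ from mul_one (cj θ), hk, Nat.cast_zero]
  have hY1 : classInner (θ * sym θ) (θ * cj θ) = n + 1 := by
    have e1 : classInner (θ * sym θ) (θ * cj θ) =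
        classInner (sym θ * sym θ) θ + classInner (sym θ) (θ * θ) := by
      simp only [classInner, ← mul_add, ← Finset.sum_add_distrib]
      congr 1
      refine Finset.sum_congr rfl fun g _ => ?_
      have e2 := congrFun hadd g
      simp only [Pi.mul_apply, Pi.add_apply, cj_apply, map_mul, Complex.conj_conj] at e2 ⊢
      linear_combination (sym θ g * conj (θ g)) * e2
    rw [e1, hn, hadd, classInner_add_right, hm, hk]
    push_cast; ring
  have hY2 : classInner (θ * sym θ) (red θ) ≠ 0 := by
    rw [red, classInner_sub_right, hY0, hY1, sub_zero]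
    exact_mod_cast Nat.succ_ne_zero n
  have hR : IsCharacter G (θ * sym θ - red θ) := IsChar.sub_constituent hY hΦi hY2
  obtain ⟨ρ, hρ, h4⟩ := H.ten hR
    (by simp only [Pi.sub_apply, Pi.mul_apply, sym, mul_one, hΦk, h.sq_mem H, hk4])
    (by simp only [Pi.sub_apply, Pi.mul_apply, sym, mul_one, hΦ1, h1]; norm_num)
    (by simp only [Pi.sub_apply, Pi.mul_apply, sym, hΦu, h.sq_mem H, h1, hu]; norm_num)
    (by rw [classInner_sub_left, hY0, hΦ0, sub_zero])
  exact H.real_of_four hρ h4

end Cfsg.Agent.ConstFour
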